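import Mathlib
import Cfsg.Agent.Char.CliffordCorr
import Cfsg.Agent.Char.Linear
import Cfsg.Agent.ProjExt.Ratio
import Cfsg.Agent.CharArith.PrimeCodegree

/-!
# Quasi-primitive characters
-/

namespace Cfsg.Agent.PrimClass

open Cfsg.Agent.Char
open scoped ComplexConjugate commutatorElement

universe u

variable {G : Type u} [Group G] [Fintype G]

/-- Every restriction to a normal subgroup is a multiple of an irreducible character. -/
def QP (χ : G → ℂ) : Prop :=
  ∀ N : Subgroup G, N.Normal → ∃ (φ : N → ℂ) (e : ℕ),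
    IsIrrCharacter N φ ∧ ∀ n : N, χ n = e * φ n

theorem qp_of_primitive {χ : G → ℂ} (hχ : IsIrrCharacter G χ)
    (hprim : ¬ ∃ (H : Subgroup G), H ≠ ⊤ ∧ ∃ θ : ↥H → ℂ, IsCharacter ↥H θ ∧ indFun H θ = χ) :
    QP χ := by
  intro N hN
  classical
  letI := Fintype.ofFinite N
  obtain ⟨⟨φ, hφ⟩, h0⟩ := exists_constituent_res (N := N) hχ
  change classInner (fun n : N => χ n) φ ≠ 0 at h0
  obtain ⟨k, hk⟩ := classInner_isCharacter_eq_natCast (isCharacter_res N (IsIrr.isCharacter hχ))
    (IsIrr.isCharacter hφ)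
  obtain ⟨ψ, hψ, hind, -⟩ := clifford_correspondence hχ hφ h0
  have htop : inertia φ = ⊤ := by
    by_contra hne
    exact hprim ⟨_, hne, ψ, IsIrr.isCharacter hψ, hind⟩
  refine ⟨φ, k, hφ, fun n => ?_⟩
  have h1 := congrFun (clifford hχ hφ h0) n
  have h2 : orbit φ = {φ} := by
    refine Finset.eq_singleton_iff_unique_mem.2 ⟨self_mem_orbit φ, fun x hx => ?_⟩
    obtain ⟨g, rfl⟩ := mem_orbit.1 hx
    exact mem_inertia.1 (htop ▸ Subgroup.mem_top g)
  rw [h1, h2, hk]
  simp

/-- Quasi-primitivity passes to a quotient through which the character factors. -/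
theorem qp_quotient {χ : G → ℂ} (hqp : QP χ) (K : Subgroup G) [K.Normal] [Fintype (G ⧸ K)]
    {χ' : G ⧸ K → ℂ} (hχ' : IsIrrCharacter (G ⧸ K) χ') (he : ∀ g : G, χ g = χ' g) : QP χ' := by
  intro N hN
  classical
  letI := Fintype.ofFinite N
  let L : Subgroup G := N.comap (QuotientGroup.mk' K)
  letI := Fintype.ofFinite L
  obtain ⟨φ, e, hφ, hφe⟩ := hqp L (hN.comap _)
  let π : L →* N := ((QuotientGroup.mk' K).comp L.subtype).codRestrict N fun x => x.2
  have hπ : Function.Surjective π := fun y => by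
    obtain ⟨x, hx⟩ := QuotientGroup.mk_surjective (y : G ⧸ K)
    exact ⟨⟨x, show QuotientGroup.mk' K x ∈ N by rw [QuotientGroup.mk'_apply, hx]; exact y.2⟩,
      Subtype.ext hx⟩
  obtain ⟨⟨ψ, hψ⟩, h0⟩ := exists_constituent_res (N := N) hχ'
  change classInner (fun n : N => χ' n) ψ ≠ 0 at h0
  have hψπ : IsIrrCharacter L (fun l => ψ (π l)) := isIrrCharacter_comp π hπ hψ
  have hval : ∀ l : L, χ l = χ' (π l : G ⧸ K) := fun l => he l
  have hφψ : φ = fun l => ψ (π l) := by
    by_contra hne
    apply h0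
    have h1 : classInner (fun l : L => χ' (π l : G ⧸ K)) (fun l => ψ (π l)) = 0 := by
      rw [show (fun l : L => χ' (π l : G ⧸ K)) = (e : ℂ) • φ from funext fun l => by
        rw [← hval, hφe]; rfl]
      rw [classInner_smul_left, classInner_irr_ne hφ hψπ hne, mul_zero]
    have hexp : (fun l : L => χ' (π l : G ⧸ K)) = ∑ η : IrrCharacter N,
        classInner (fun n : N => χ' n) (η : N → ℂ) • fun l => (η : N → ℂ) (π l) := by
      funext l
      have h2 := congrFun (classFun_expansion (isClassFunction_of_isCharacter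
        (isCharacter_res N (IsIrr.isCharacter hχ')))) (π l)
      refine h2.trans ?_
      simp
    rw [hexp, classInner_sum_left, Finset.sum_eq_single (⟨ψ, hψ⟩ : IrrCharacter N),
      classInner_smul_left, classInner_irr_self hψπ, mul_one] at h1
    · exact h1
    · intro η _ hη
      rw [classInner_smul_left, classInner_irr_ne (isIrrCharacter_comp π hπ η.2) hψπ fun e2 =>
        hη (Subtype.ext (funext fun y => by
          obtain ⟨l, rfl⟩ := hπ y
          exact congrFun e2 l)), mul_zero]
    · exact fun h => absurd (Finset.mem_univ _) h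
  refine ⟨ψ, e, hψ, fun n => ?_⟩
  obtain ⟨l, rfl⟩ := hπ n
  rw [← hval, hφe, hφψ]

variable {χ : G → ℂ} (hχ : IsIrrCharacter G χ) (hqp : QP χ)
include hχ hqp

/-- A normal abelian subgroup is central when the character is faithful. -/
theorem abelian_normal_le_center (hfaith : ∀ g, χ g = χ 1 → g = 1) (A : Subgroup G)
    (hA : A.Normal) (hab : ∀ a ∈ A, ∀ b ∈ A, a * b = b * a) : A ≤ Subgroup.center G := by
  classical
  obtain ⟨φ, e, hφ, hφe⟩ := hqp A hA
  have h1 := IsIrr.degree_one_of_comm hφ fun a b : A => Subtype.ext (hab a a.2 b b.2)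
  obtain ⟨l, hl⟩ := IsChar.exists_hom (IsIrr.isCharacter hφ) h1
  have he : (e : ℂ) ≠ 0 := fun e0 => IsIrr.one_ne_zero hχ (by
    have := hφe 1
    rw [e0, zero_mul] at this
    exact this)
  intro x hx
  rw [Subgroup.mem_center_iff]
  intro g
  let y : A := ⟨g * x * g⁻¹, hA.conj_mem x hx g⟩
  have h2 : φ y = φ ⟨x, hx⟩ := mul_left_cancel₀ he (by
    rw [← hφe, ← hφe]
    exact isClassFunction_of_isIrr hχ x g)
  have h3 : l y = l ⟨x, hx⟩ := Units.ext (by rw [hl] at h2; exact h2)
  have h4 : χ ((y * ⟨x, hx⟩⁻¹ : A) : G) = χ 1 := by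
    rw [hφe, show χ 1 = χ ((1 : A) : G) from rfl, hφe, hl]
    show (e : ℂ) * ((l (y * ⟨x, hx⟩⁻¹) : ℂˣ) : ℂ) = (e : ℂ) * ((l 1 : ℂˣ) : ℂ)
    rw [map_mul, map_inv, h3, mul_inv_cancel, map_one]
  have h5 := hfaith _ h4
  simp only [y, Subgroup.coe_mul, Subgroup.coe_inv] at h5
  exact mul_inv_eq_iff_eq_mul.1 (mul_inv_eq_one.1 h5)

/-- The restriction to a normal subgroup with nilpotent quotient is irreducible. -/
theorem res_irr_of_nilpotent_quotient : ∀ (n : ℕ) (M : Subgroup G) [M.Normal],
    Group.IsNilpotent (G ⧸ M) → M.index = n → IsIrrCharacter M (fun m : M => χ m) := by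
  intro n
  induction n using Nat.strong_induction_on with
  | _ n ih =>
  intro M _ hnil hn
  classical
  by_cases htop : M = ⊤
  · subst htop
    exact (isIrrCharacter_comp_equiv Subgroup.topEquiv).2 hχ
  have : Nontrivial (G ⧸ M) := QuotientGroup.nontrivial_iff.2 htop
  have hc : 1 < Nat.card (Subgroup.center (G ⧸ M)) :=
    Finite.one_lt_card_iff_nontrivial.2 ((Subgroup.nontrivial_iff_ne_bot _).2
      (by simpa using Group.IsNilpotent.center_ne_bot (G ⧸ M)))
  obtain ⟨r, hr, hrd⟩ := Nat.exists_prime_and_dvd hc.ne'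
  have := Fact.mk hr
  obtain ⟨z, hz⟩ := exists_prime_orderOf_dvd_card' r hrd
  let Q : Subgroup (G ⧸ M) := Subgroup.zpowers (z : G ⧸ M)
  have hQn : Q.Normal := ⟨fun a ha g => by
    have hac : a ∈ Subgroup.center (G ⧸ M) := (Subgroup.zpowers_le.2 z.2) ha
    rw [Subgroup.mem_center_iff.1 hac g, mul_inv_cancel_right]
    exact ha⟩
  let M' : Subgroup G := Q.comap (QuotientGroup.mk' M)
  have hle : M ≤ M' := fun m hm => by
    show QuotientGroup.mk' M m ∈ Q
    rw [QuotientGroup.mk'_apply, (QuotientGroup.eq_one_iff m).2 hm]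
    exact one_mem _
  have hidx : M.relIndex M' = r := by
    have h1 := Subgroup.relIndex_comap (⊥ : Subgroup (G ⧸ M)) (QuotientGroup.mk' M) M'
    rw [MonoidHom.comap_bot, QuotientGroup.ker_mk', Subgroup.relIndex_bot_left] at h1
    rw [h1, Subgroup.map_comap_eq_self_of_surjective (QuotientGroup.mk'_surjective M)]
    show Nat.card Q = r
    rw [Nat.card_zpowers, Subgroup.orderOf_coe, hz]
  have hlt : M'.index < n := by
    have h1 := Subgroup.relIndex_mul_index hle
    rw [hidx, hn] at h1
    have h2 : 0 < M'.index := Nat.pos_of_ne_zero Subgroup.index_ne_zero_of_finite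
    nlinarith [hr.two_le]
  have : M'.Normal := hQn.comap _
  have hnil' : Group.IsNilpotent (G ⧸ M') :=
    Group.nilpotent_of_surjective (QuotientGroup.map M M' (MonoidHom.id G) hle) fun x => by
      obtain ⟨g, rfl⟩ := QuotientGroup.mk_surjective x
      exact ⟨g, rfl⟩
  have hM' := ih _ hlt M' hnil' rfl
  letI := Fintype.ofFinite M'
  letI := Fintype.ofFinite M
  let N : Subgroup M' := M.subgroupOf M'
  letI := Fintype.ofFinite N
  let eN : N ≃* M := Subgroup.subgroupOfEquivOfLe hle
  obtain ⟨φ, e, hφ, hφe⟩ := hqp M inferInstance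
  have hφN : IsIrrCharacter N (fun x => φ (eN x)) := (isIrrCharacter_comp_equiv eN).2 hφ
  have hres : (fun x : N => (fun m : M' => χ m) x) = (e : ℂ) • fun x => φ (eN x) :=
    funext fun x => hφe (eN x)
  have hcon : classInner (fun x : N => (fun m : M' => χ m) x) (fun x => φ (eN x)) = e := by
    rw [hres, classInner_smul_left, classInner_irr_self hφN, mul_one]
  have he0 : e ≠ 0 := fun e0 => IsIrr.one_ne_zero hχ (by
    have := hφe 1
    rw [e0, Nat.cast_zero, zero_mul] at this
    exact this)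
  obtain ⟨k, hk, hkd⟩ := ProjExt.exists_ratio_dvd_index hM' hφN
    (by rw [hcon]; exact_mod_cast he0)
  have hke : k = e := by
    have h1 : χ 1 = k * φ 1 := by simpa using hk
    have h2 : χ 1 = e * φ 1 := hφe 1
    exact_mod_cast mul_right_cancel₀ (IsIrr.one_ne_zero hφ) (h1.symm.trans h2)
  have hNr : N.index = r := hidx
  rw [hke, hNr] at hkd
  -- the norm bound
  have hnorm : e * e ≤ r := by
    have h1 : classInner (fun x : N => (fun m : M' => χ m) x) (fun x : N => χ x) = (e : ℂ) * e := by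
      rw [show (fun x : N => χ x) = (e : ℂ) • fun x => φ (eN x) from hres,
        classInner_smul_left, classInner_smul_right, classInner_irr_self hφN]
      simp
    have h2 := classInner_irr_self hM'
    rw [classInner_self_eq] at h2
    rw [classInner_self_eq] at h1
    have h1' : (Nat.card N : ℝ)⁻¹ * ∑ x : N, Complex.normSq (χ x) = e * e := by exact_mod_cast h1
    have h2' : (Nat.card M' : ℝ)⁻¹ * ∑ x : M', Complex.normSq (χ x) = 1 := by exact_mod_cast h2
    rw [inv_mul_eq_iff_eq_mul₀ (by exact_mod_cast Nat.card_pos.ne')] at h1' h2'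
    have hsub : ∑ x : N, Complex.normSq (χ x) ≤ ∑ x : M', Complex.normSq (χ x) := by
      rw [← Finset.sum_subtype (Finset.univ.filter (· ∈ N)) (by simp)
        (fun x : M' => Complex.normSq (χ x))]
      exact Finset.sum_le_sum_of_subset_of_nonneg (Finset.subset_univ _)
        fun x _ _ => Complex.normSq_nonneg _
    rw [h1', h2', mul_one, show (Nat.card M' : ℝ) = (Nat.card N : ℝ) * r by
      rw [← hNr, ← Nat.cast_mul, Subgroup.card_mul_index]] at hsub
    have h3 := le_of_mul_le_mul_left hsub (Nat.cast_pos.2 Nat.card_pos)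
    exact_mod_cast h3
  have he1 : e = 1 := by
    rcases (Nat.dvd_prime hr).1 hkd with h | h
    · exact h
    · have := hr.two_le
      rw [h] at hnorm
      nlinarith
  rw [show (fun m : M => χ m) = φ from funext fun m => by rw [hφe, he1, Nat.cast_one, one_mul]]
  exact hφ

end Cfsg.Agent.PrimClass
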