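import Cfsg.Agent.BlockChar.PrimClass.HalfAvg
import Cfsg.Agent.BlockChar.PrimClass.Restrict

/-!
# The p-part of the degree of a quasi-primitive character of a solvable group

Along a chief series the degree grows at a chief factor at most by the square root of its order,
and not at all at central factors, while an element moves on average at least half of every
non-central factor.
-/

namespace Cfsg.Agent.PrimClass

open Cfsg.Agent.Char
open scoped ComplexConjugate commutatorElement IsMulCommutative

universe u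

variable {G : Type u} [Group G] [Fintype G]

/-- The norm bound for a restriction which is a multiple of an irreducible character. -/
theorem mul_self_le_index {M : Subgroup G} [Fintype M] {χ : G → ℂ} (hχ : IsIrrCharacter G χ)
    {φ : M → ℂ} (hφ : IsIrrCharacter M φ) {e : ℕ} (he : ∀ m : M, χ m = e * φ m) :
    e * e ≤ M.index := by
  classical
  have h1 : classInner (fun x : M => χ x) (fun x : M => χ x) = (e : ℂ) * e := by
    rw [show (fun x : M => χ x) = (e : ℂ) • φ from funext he,
      classInner_smul_left, classInner_smul_right, classInner_irr_self hφ]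
    simp
  have h2 := classInner_irr_self hχ
  rw [classInner_self_eq] at h2
  rw [classInner_self_eq] at h1
  have h1' : (Nat.card M : ℝ)⁻¹ * ∑ x : M, Complex.normSq (χ x) = e * e := by exact_mod_cast h1
  have h2' : (Nat.card G : ℝ)⁻¹ * ∑ x : G, Complex.normSq (χ x) = 1 := by exact_mod_cast h2
  rw [inv_mul_eq_iff_eq_mul₀ (by exact_mod_cast Nat.card_pos.ne')] at h1' h2'
  have hsub : ∑ x : M, Complex.normSq (χ x) ≤ ∑ x : G, Complex.normSq (χ x) := by
    rw [← Finset.sum_subtype (Finset.univ.filter (· ∈ M)) (by simp)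
      (fun x : G => Complex.normSq (χ x))]
    exact Finset.sum_le_sum_of_subset_of_nonneg (Finset.subset_univ _)
      fun x _ _ => Complex.normSq_nonneg _
  rw [h1', h2', mul_one, ← Subgroup.card_mul_index M, Nat.cast_mul] at hsub
  have h3 := le_of_mul_le_mul_left hsub (Nat.cast_pos.2 Nat.card_pos)
  exact_mod_cast h3

variable {χ : G → ℂ} (hχ : IsIrrCharacter G χ) (hqp : QP χ)
include hχ hqp

/-- The multiplicity in the restriction between two normal subgroups. -/
theorem exists_ratio {N N0 : Subgroup G} [N0.Normal] [Fintype N] (hle : N0 ≤ N) {φ : N → ℂ} {a : ℕ}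
    (hφ : IsIrrCharacter N φ) (ha : ∀ x : N, χ x = a * φ x) :
    ∃ (φ0 : N0 → ℂ) (b k : ℕ), IsIrrCharacter N0 φ0 ∧ (∀ x : N0, χ x = b * φ0 x) ∧
      φ 1 = k * φ0 1 ∧ k ∣ N0.relIndex N ∧ k * k ≤ N0.relIndex N := by
  classical
  obtain ⟨φ0, b, hφ0, hb⟩ := hqp N0 inferInstance
  have hab : ∀ {K : Subgroup G} {θ : K → ℂ} {c : ℕ}, (∀ x : K, χ x = c * θ x) → (c : ℂ) ≠ 0 :=
    fun {K θ c} h h0 => IsIrr.one_ne_zero hχ (by
      have := h 1
      rw [h0, zero_mul] at this
      exact this)
  let M : Subgroup N := N0.subgroupOf N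
  letI := Fintype.ofFinite M
  let eN : M ≃* N0 := Subgroup.subgroupOfEquivOfLe hle
  have hθ : IsIrrCharacter M (fun x => φ0 (eN x)) := (isIrrCharacter_comp_equiv eN).2 hφ0
  have hr : ∀ x : M, φ x = (b / a : ℂ) * φ0 (eN x) := fun x => by
    have h1 : (a : ℂ) * φ x = b * φ0 (eN x) := (ha _).symm.trans (hb (eN x))
    rw [div_mul_eq_mul_div, ← h1, mul_div_cancel_left₀ _ (hab ha)]
  obtain ⟨k, hk, hkd⟩ := ProjExt.exists_ratio_dvd_index hφ hθ (by
    rw [show (fun x : M => φ x) = (b / a : ℂ) • fun x => φ0 (eN x) from funext hr,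
      classInner_smul_left, classInner_irr_self hθ, mul_one]
    exact div_ne_zero (hab hb) (hab ha))
  have hk' : φ 1 = k * φ0 1 := by
    simpa using hk
  have hbk : (b / a : ℂ) = k := by
    have h1 := hr 1
    simp only [OneMemClass.coe_one, map_one] at h1
    exact mul_right_cancel₀ (IsIrr.one_ne_zero hφ0) (h1.symm.trans hk')
  exact ⟨φ0, b, k, hφ0, hb, hk', hkd,
    mul_self_le_index hφ hθ fun x => by rw [hr, hbk]⟩

/-- The inductive bound. -/
theorem chief_bound [Group.IsSolvable G] {p : ℕ} [hp : Fact p.Prime] : ∀ (n : ℕ) (N : Subgroup G),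
    N.Normal → Nat.card N = n → ∀ (φ : N → ℂ) (a : ℕ), IsIrrCharacter N φ →
      (∀ x : N, χ x = a * φ x) → ∃ d : ℕ, 0 < d ∧ φ 1 = d ∧
        Nat.card G * d.factorization p ≤
          ∑ g : G, ((Subgroup.centralizer ({g} : Set G)).relIndex N).factorization p := by
  intro n
  induction n using Nat.strong_induction_on with
  | _ n ih =>
  intro N hNn hn φ a hφ ha
  classical
  letI := Fintype.ofFinite N
  by_cases hN : N = ⊥
  · refine ⟨1, one_pos, ?_, by simp⟩
    rw [Nat.cast_one]
    refine IsIrr.degree_one_of_comm hφ fun x y => ?_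
    have : Subsingleton N := (Nat.card_eq_one_iff_unique.1 (by rw [hN, Subgroup.card_bot])).1
    exact Subsingleton.elim _ _
  obtain ⟨N0, ⟨hN0n, hN0⟩, hmax⟩ :=
    Set.Finite.exists_maximal (Set.toFinite {M : Subgroup G | M.Normal ∧ M < N})
      ⟨⊥, inferInstance, bot_lt_iff_ne_bot.2 hN⟩
  have := hN0n
  obtain ⟨φ0, b, k, hφ0, hb, hk, hkd, hkk⟩ := exists_ratio hχ hqp hN0.le hφ ha
  have hcard : Nat.card N0 < n := by
    rw [← hn]
    exact lt_of_le_of_ne (Subgroup.card_le_of_le hN0.le)
      fun h => hN0.ne (Subgroup.eq_of_le_of_card_ge hN0.le h.ge)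
  obtain ⟨d0, hd0, hd01, hd0b⟩ := ih _ hcard N0 hN0n rfl φ0 b hφ0 hb
  have hk0 : k ≠ 0 := fun h0 => IsIrr.one_ne_zero hφ (by rw [hk, h0, Nat.cast_zero, zero_mul])
  refine ⟨k * d0, by positivity, by rw [hk, hd01, Nat.cast_mul], ?_⟩
  rw [Nat.factorization_mul hk0 hd0.ne', Finsupp.add_apply]
  -- the chief factor
  let π := QuotientGroup.mk' N0
  let W : Subgroup (G ⧸ N0) := N.map π
  have : W.Normal := hNn.map π (QuotientGroup.mk'_surjective N0)
  have hπker : π.ker = N0 := QuotientGroup.ker_mk' N0
  have hW : Nat.card W = N0.relIndex N := by rw [← Subgroup.relIndex_ker, hπker]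
  let ψ : G →* MulAut W := (MulAut.conjNormal (H := W)).comp π
  have hψ : ∀ g (w : W), (ψ g w : G ⧸ N0) = π g * w * (π g)⁻¹ := fun g w => by
    simp [ψ]
  -- normal subgroups inside the factor
  have hnor : ∀ X : Subgroup (G ⧸ N0), X.Normal → X ≤ W → X = ⊥ ∨ X = W := by
    intro X hX hXW
    by_cases h : X = W
    · exact Or.inr h
    refine Or.inl ?_
    have h1 : X.comap π ≤ N0 := by
      refine hmax (y := X.comap π) ⟨hX.comap π, lt_of_le_of_ne ?_ ?_⟩ (fun x hx => ?_)
      · intro x hx
        obtain ⟨y, hy, hxy⟩ := hXW hx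
        have h2 : y⁻¹ * x ∈ N0 := by
          rw [← hπker, MonoidHom.mem_ker, map_mul, map_inv, hxy, inv_mul_cancel]
        have h3 := N.mul_mem hy (hN0.le h2)
        rwa [mul_inv_cancel_left] at h3
      · intro he
        refine h (le_antisymm hXW ?_)
        rintro _ ⟨y, hy, rfl⟩
        exact show y ∈ X.comap π from he ▸ hy
      · show π x ∈ X
        rw [show π x = 1 from (QuotientGroup.eq_one_iff x).2 hx]
        exact one_mem _
    rw [eq_bot_iff]
    intro y hy
    obtain ⟨x, rfl⟩ := QuotientGroup.mk'_surjective N0 y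
    exact Subgroup.mem_bot.2 ((QuotientGroup.eq_one_iff x).2 (h1 hy))
  have hW1 : W ≠ ⊥ := fun h => hN0.not_ge fun y hy => by
    rw [← hπker, MonoidHom.mem_ker]
    exact Subgroup.mem_bot.1 (h ▸ Subgroup.mem_map_of_mem π hy)
  -- it is abelian
  have : Group.IsSolvable (G ⧸ N0) :=
    solvable_of_surjective (QuotientGroup.mk'_surjective N0)
  have habW : ⁅W, W⁆ = ⊥ := by
    rcases hnor _ (Subgroup.commutator_normal W W) (Subgroup.commutator_le_left W W) with h | h
    · exact h
    · exfalso
      obtain ⟨m, hm⟩ : ∃ m, derivedSeries (G ⧸ N0) m = ⊥ := Group.IsSolvable.solvable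
      have h1 : ∀ i, W ≤ derivedSeries (G ⧸ N0) i := fun i => by
        induction i with
        | zero => exact le_top
        | succ i hi =>
          rw [derivedSeries_succ]
          exact h.ge.trans (Subgroup.commutator_mono hi hi)
      exact hW1 (eq_bot_iff.2 (hm ▸ h1 m))
  haveI : IsMulCommutative W := ⟨⟨fun u v => Subtype.ext (commutatorElement_eq_one_iff_mul_comm.1
    (Subgroup.mem_bot.1 (habW ▸ Subgroup.commutator_mem_commutator u.2 v.2)))⟩⟩
  have hirr : ∀ X : Subgroup W, (∀ g, ∀ w ∈ X, ψ g w ∈ X) → X = ⊥ ∨ X = ⊤ := by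
    intro X hX
    have h1 : (X.map W.subtype).Normal := ⟨fun y hy c => by
      obtain ⟨w, hw, rfl⟩ := hy
      obtain ⟨g, rfl⟩ := QuotientGroup.mk'_surjective N0 c
      exact ⟨ψ g w, hX g w hw, hψ g w⟩⟩
    rcases hnor _ h1 (Subgroup.map_subtype_le X) with h | h
    · exact Or.inl ((Subgroup.map_eq_bot_iff_of_injective _ W.subtype_injective).1 h)
    · refine Or.inr (Subgroup.map_injective W.subtype_injective ?_)
      rw [h, ← MonoidHom.range_eq_map, Subgroup.range_subtype]
  -- of prime exponent
  obtain ⟨r, hr, hrd⟩ := Nat.exists_prime_and_dvd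
    (fun h => hW1 (Subgroup.card_eq_one.1 h) : Nat.card W ≠ 1)
  have := Fact.mk hr
  have hexp : ∀ w : W, w ^ r = 1 := by
    have h1 : (powMonoidHom r : W →* W).ker = ⊤ := by
      refine (hirr _ fun g w hw => ?_).resolve_left fun h => ?_
      · show (ψ g w) ^ r = 1
        rw [← map_pow, show w ^ r = 1 from hw, map_one]
      · obtain ⟨w, hw⟩ := exists_prime_orderOf_dvd_card' r hrd
        have h2 : w ∈ (powMonoidHom r : W →* W).ker := show w ^ r = 1 by rw [← hw, pow_orderOf_eq_one]
        rw [h, Subgroup.mem_bot] at h2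
        rw [h2, orderOf_one] at hw
        exact hr.ne_one hw.symm
    exact fun w => (show w ∈ (powMonoidHom r : W →* W).ker from h1 ▸ Subgroup.mem_top w)
  have hWr : IsPGroup r W := fun w => ⟨1, by rw [pow_one]; exact hexp w⟩
  obtain ⟨m, hm⟩ := IsPGroup.iff_card.1 hWr
  obtain ⟨j, hjm, hkj⟩ := (Nat.dvd_prime_pow hr).1 (hm ▸ hW ▸ hkd : k ∣ r ^ m)
  have hjm2 : 2 * j ≤ m := by
    rw [← hW, hm, hkj, ← pow_add] at hkk
    have := (Nat.pow_le_pow_iff_right hr.one_lt).1 hkk
    omega
  -- the counting at one element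
  have hstep : ∀ g : G, ∃ i c : ℕ, i ≤ c ∧ Nat.card (fixSub (ψ g)) = r ^ c ∧
      ((Subgroup.centralizer ({g} : Set G)).relIndex N).factorization p + (r ^ i).factorization p =
        ((Subgroup.centralizer ({g} : Set G)).relIndex N0).factorization p +
          (r ^ m).factorization p := by
    intro g
    set C := Subgroup.centralizer ({g} : Set G)
    let I : Subgroup W := ((C ⊓ N).map π).subgroupOf W
    have hI : I ≤ fixSub (ψ g) := by
      intro w hw
      obtain ⟨x, hx, hxw⟩ := hw
      refine Subtype.ext ?_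
      rw [hψ, show (w : G ⧸ N0) = π x from hxw.symm, ← map_mul, ← map_inv, ← map_mul,
        show g * x = x * g from Subgroup.mem_centralizer_singleton_iff.1 hx.1 |>.symm,
        mul_inv_cancel_right]
    have hcI : Nat.card I = N0.relIndex (C ⊓ N) := by
      rw [Nat.card_congr (Subgroup.subgroupOfEquivOfLe (Subgroup.map_mono inf_le_right)).toEquiv,
        ← Subgroup.relIndex_ker, hπker]
    obtain ⟨c, -, hc⟩ := (Nat.dvd_prime_pow hr).1 (hm ▸ Subgroup.card_subgroup_dvd_card (fixSub (ψ g)))
    obtain ⟨i, hic, hi⟩ := (Nat.dvd_prime_pow hr).1 (hc ▸ Subgroup.card_dvd_of_le hI)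
    refine ⟨i, c, hic, hc, ?_⟩
    have h1 := Subgroup.relIndex_mul_relIndex (C ⊓ N0) N0 N inf_le_right hN0.le
    have h2 := Subgroup.relIndex_mul_relIndex (C ⊓ N0) (C ⊓ N) N
      (inf_le_inf_left C hN0.le) inf_le_right
    rw [Subgroup.inf_relIndex_right, ← hW, hm] at h1
    rw [Subgroup.inf_relIndex_right, ← h1] at h2
    have h3 : (C ⊓ N0).relIndex (C ⊓ N) = r ^ i := by
      rw [← hi, hcI, ← Subgroup.inf_relIndex_right N0 (C ⊓ N)]
      congr 1
      rw [inf_left_comm, inf_eq_left.2 hN0.le]
    rw [h3] at h2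
    have hpos : ∀ (K L : Subgroup G), K.relIndex L ≠ 0 := fun K L =>
      Subgroup.index_ne_zero_of_finite
    have hrpos : ∀ s : ℕ, r ^ s ≠ 0 := fun s => pow_ne_zero _ hr.ne_zero
    have h4 := congrArg (fun s : ℕ => s.factorization p) h2
    simp only [Nat.factorization_mul (hrpos i) (hpos _ _), Nat.factorization_mul (hpos _ _) (hrpos m),
      Finsupp.add_apply] at h4
    omega
  choose i c hic hc heq using hstep
  rw [mul_add]
  have hsum := congrArg (fun f : G → ℕ => ∑ g, f g) (funext heq)
  simp only [Finset.sum_add_distrib, Finset.sum_const, Finset.card_univ, smul_eq_mul,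
    ← Nat.card_eq_fintype_card] at hsum
  by_cases hrp : r = p
  · subst hrp
    simp only [hr.factorization_pow, Finsupp.single_eq_same] at hsum
    rw [hkj, hr.factorization_pow, Finsupp.single_eq_same]
    have hile : ∑ g, i g ≤ ∑ g, c g := Finset.sum_le_sum fun g _ => hic g
    by_cases hψ1 : ψ = 1
    · -- a central factor has prime order
      obtain ⟨w, hw⟩ := exists_prime_orderOf_dvd_card' r hrd
      have h1 : Subgroup.zpowers w = ⊤ := (hirr _ fun g v hv => by
          rw [hψ1]; exact hv).resolve_left fun h => by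
            rw [Subgroup.zpowers_eq_bot] at h
            rw [h, orderOf_one] at hw
            exact hr.ne_one hw.symm
      have h2 : Nat.card W = r := by
        rw [← Subgroup.card_top (G := W), ← h1, Nat.card_zpowers, hw]
      have hm1 : m = 1 := Nat.pow_right_injective hr.two_le ((hm.symm.trans h2).trans (pow_one r).symm)
      have hj : j = 0 := by omega
      have h3 : ∑ g, i g ≤ Nat.card G * m := by
        refine hile.trans ?_
        rw [Nat.card_eq_fintype_card, ← smul_eq_mul, ← Finset.card_univ]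
        refine Finset.sum_le_card_nsmul _ _ _ fun g _ => ?_
        refine (Nat.pow_le_pow_iff_right hr.one_lt).1 ?_
        rw [← hc g, ← hm]
        exact Subgroup.card_le_card_group _
      rw [hj, mul_zero, zero_add]
      omega
    · have h1 := prod_fix_sq_le_of_solvable hWr ψ hirr hψ1
      simp only [hc, ← pow_mul, Finset.prod_pow_eq_pow_sum, hm] at h1
      have h2 := (Nat.pow_le_pow_iff_right hr.one_lt).1 h1
      rw [← Finset.sum_mul, mul_comm m] at h2
      have h3 : Nat.card G * j * 2 ≤ Nat.card G * m := by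
        rw [mul_assoc]
        exact Nat.mul_le_mul_left _ (by omega)
      omega
  · simp only [hr.factorization_pow, Finsupp.single_eq_of_ne (Ne.symm hrp),
      Finset.sum_const_zero, mul_zero, add_zero] at hsum
    rw [hkj, hr.factorization_pow, Finsupp.single_eq_of_ne (Ne.symm hrp), mul_zero, zero_add]
    omega

/-- Some class size absorbs the `p`-part of the degree. -/
theorem exists_factorization_le_index [Group.IsSolvable G] (p : ℕ) [Fact p.Prime] :
    ∃ g : G, (Cfsg.charDegree χ).factorization p ≤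
      ((Subgroup.centralizer ({g} : Set G)).index).factorization p := by
  classical
  have hrestr : IsIrrCharacter (⊤ : Subgroup G) (fun x : (⊤ : Subgroup G) => χ x) :=
    (isIrrCharacter_comp_equiv Subgroup.topEquiv).2 hχ
  obtain ⟨d, -, hd, hsum⟩ := chief_bound hχ hqp (p := p) _ ⊤ inferInstance rfl _ 1 hrestr
    fun x => by simp
  have hdeg : Cfsg.charDegree χ = d := Nat.cast_injective (R := ℂ)
    ((Cfsg.Agent.CharArith.irr_degree_spec ⟨χ, hχ⟩).1.symm.trans hd)
  simp only [Subgroup.relIndex_top_right] at hsum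
  rw [hdeg]
  obtain ⟨g, -, hg⟩ := Finset.exists_le_of_sum_le (s := (Finset.univ : Finset G))
    (f := fun _ => d.factorization p)
    (g := fun g => ((Subgroup.centralizer ({g} : Set G)).index).factorization p)
    ⟨1, Finset.mem_univ _⟩ (by
      rw [Finset.sum_const, Finset.card_univ, ← Nat.card_eq_fintype_card, smul_eq_mul]
      exact hsum)
  exact ⟨g, hg⟩

end Cfsg.Agent.PrimClass
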