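import Mathlib

/-!
# Average number of fixed points of a coprime action of an odd prime power group

If a `q`-group `A`, `q ≥ 3`, acts on an abelian group `W` of order prime to `q` without non-trivial
common fixed points, then the geometric mean of `#fix a ^ 3` is at most `#W`.
-/

namespace Cfsg.Agent.PrimClass

universe u

variable {A : Type*} [Group A] [Finite A]

/-- The fixed subgroup of an automorphism. -/
def fixSub {W : Type*} [CommGroup W] (f : MulAut W) : Subgroup W where
  carrier := {w | f w = w}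
  one_mem' := map_one f
  mul_mem' := fun {a b} (ha : f a = a) (hb : f b = b) => show f (a * b) = a * b by rw [map_mul, ha, hb]
  inv_mem' := fun {a} (ha : f a = a) => show f a⁻¹ = a⁻¹ by rw [map_inv, ha]

@[simp] theorem mem_fixSub {W : Type*} [CommGroup W] {f : MulAut W} {w : W} :
    w ∈ fixSub f ↔ f w = w := Iff.rfl

/-- Eigenspaces of a fixed-point-free element of prime order are independent. -/
theorem prod_fix_le {W : Type*} [CommGroup W] [Finite W] {q : ℕ} [hq : Fact q.Prime]
    (hcop : (Nat.card W).Coprime q) (X Z : MulAut W) (hXZ : Commute X Z) (hZ : Z ^ q = 1)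
    (hfree : fixSub Z = ⊥) :
    ∏ j : ZMod q, Nat.card (fixSub (X * Z ^ j.val)) ≤ Nat.card W := by
  classical
  letI := Fintype.ofFinite W
  have : NeZero q := ⟨hq.out.ne_zero⟩
  have hval : ∀ i j : ZMod q, Z ^ i.val * Z ^ j.val = Z ^ (i + j).val := fun i j => by
    rw [← pow_add, ZMod.val_add]
    conv_lhs => rw [← Nat.mod_add_div (i.val + j.val) q, pow_add, pow_mul, hZ, one_pow, mul_one]
  let π : ((j : ZMod q) → fixSub (X * Z ^ j.val)) →* W :=
    { toFun := fun w => ∏ j, (w j : W)
      map_one' := by simp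
      map_mul' := fun a b => by simp [Finset.prod_mul_distrib] }
  suffices hinj : Function.Injective π by
    have h := Nat.card_le_card_of_injective π hinj
    rwa [Nat.card_pi] at h
  rw [injective_iff_map_eq_one]
  intro w hw
  change ∏ j, (w j : W) = 1 at hw
  funext i
  refine Subtype.ext ?_
  show (w i : W) = 1
  have hX : ∀ (n : ℕ) (j : ZMod q), (X ^ n) (w j) = (Z ^ (-(n : ZMod q) * j).val) (w j) := by
    intro n
    induction n with
    | zero => intro j; simp
    | succ n ih =>
      intro j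
      have h1 : X (w j) = (Z ^ (-j).val) (w j) := by
        have h2 : (Z ^ j.val) (X (w j)) = w j :=
          (DFunLike.congr_fun (hXZ.pow_right j.val).eq (w j : W)).symm.trans (w j).2
        calc X (w j) = (Z ^ (-j).val * Z ^ j.val) (X (w j)) := by rw [hval, neg_add_cancel]; simp
          _ = _ := by rw [MulAut.mul_apply, h2]
      rw [pow_succ, MulAut.mul_apply, h1, ← MulAut.mul_apply,
        ((hXZ.pow_left n).pow_right _).eq, MulAut.mul_apply, ih, ← MulAut.mul_apply, hval]
      congr 3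
      push_cast
      ring
  have hpow : ∀ k : ZMod q, ∏ j, (Z ^ ((i - j) * k).val) (w j : W) = 1 := fun k => by
    have h1 := congrArg (fun x => (Z ^ (i * k).val) ((X ^ k.val) x)) hw
    simp only [map_prod, map_one] at h1
    rw [← h1]
    refine Finset.prod_congr rfl fun j _ => ?_
    rw [hX, ← MulAut.mul_apply, hval]
    congr 3
    rw [ZMod.natCast_zmod_val]
    ring
  have hall : ∏ j : ZMod q, ∏ k : ZMod q, (Z ^ ((i - j) * k).val) (w j : W) = 1 := by
    rw [Finset.prod_comm]
    exact Finset.prod_eq_one fun k _ => hpow k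
  rw [Finset.prod_eq_single i (fun j _ hji => ?_) (fun h => absurd (Finset.mem_univ i) h)] at hall
  · simp only [sub_self, zero_mul, ZMod.val_zero, pow_zero, MulAut.one_apply, Finset.prod_const,
      Finset.card_univ, ZMod.card] at hall
    exact orderOf_eq_one_iff.1 (Nat.eq_one_of_dvd_coprimes hcop (orderOf_dvd_natCard _)
      (orderOf_dvd_of_pow_eq_one hall))
  · have hm : i - j ≠ 0 := sub_ne_zero.2 (Ne.symm hji)
    set y : W := ∏ k : ZMod q, (Z ^ ((i - j) * k).val) (w j : W) with hy
    have hfix : ∀ d : ZMod q, (Z ^ d.val) y = y := by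
      intro d
      rw [hy, map_prod]
      refine Fintype.prod_equiv (Equiv.addLeft ((i - j)⁻¹ * d)) _ _ fun k => ?_
      rw [← MulAut.mul_apply, hval, Equiv.coe_addLeft, mul_add, mul_inv_cancel_left₀ hm]
    have h1 := hfix 1
    rw [ZMod.val_one, pow_one] at h1
    have h2 : y ∈ fixSub Z := h1
    rwa [hfree, Subgroup.mem_bot] at h2

/-- An invariant subgroup splits the product. -/
theorem prod_fix_pow_le_step {q : ℕ} [hq : Fact q.Prime] (hq3 : 3 ≤ q) [Fintype A] (hA : IsPGroup q A)
    {W : Type u} [CommGroup W] [Finite W] [Nontrivial W] (φ : A →* MulAut W)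
    (hcop : (Nat.card W).Coprime q) (hfree : ∀ w, (∀ a, φ a w = w) → w = 1)
    (N : Subgroup W) (hN0 : N ≠ ⊥) (hN1 : N ≠ ⊤) (hN : ∀ a, ∀ w ∈ N, φ a w ∈ N)
    (ih : ∀ (V : Type u) [CommGroup V] [Finite V] (ψ : A →* MulAut V),
      Nat.card V < Nat.card W → (Nat.card V).Coprime q → (∀ w, (∀ a, ψ a w = w) → w = 1) →
      (∏ a, Nat.card (fixSub (ψ a))) ^ 3 ≤ Nat.card V ^ Nat.card A) :
    (∏ a, Nat.card (fixSub (φ a))) ^ 3 ≤ Nat.card W ^ Nat.card A := by
  classical
  have hback : ∀ a w, φ a⁻¹ (φ a w) = w := fun a w => by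
    rw [← MulAut.mul_apply, ← map_mul, inv_mul_cancel, map_one, MulAut.one_apply]
  have hmap : ∀ a, N.map (φ a).toMonoidHom = N := fun a =>
    le_antisymm (by rintro _ ⟨w, hw, rfl⟩; exact hN a w hw) fun w hw =>
      ⟨φ a⁻¹ w, hN _ w hw, by
        show φ a (φ a⁻¹ w) = w
        rw [← MulAut.mul_apply, ← map_mul, mul_inv_cancel, map_one, MulAut.one_apply]⟩
  let φN : A →* MulAut N :=
    { toFun := fun a =>
        { toFun := fun w => ⟨φ a w, hN a w w.2⟩
          invFun := fun w => ⟨φ a⁻¹ w, hN _ w w.2⟩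
          left_inv := fun w => Subtype.ext (hback a w)
          right_inv := fun w => Subtype.ext (by
            simpa using hback a⁻¹ (w : W))
          map_mul' := fun v w => Subtype.ext (map_mul (φ a) _ _) }
      map_one' := MulEquiv.ext fun w => Subtype.ext (by simp)
      map_mul' := fun a b => MulEquiv.ext fun w => Subtype.ext (by simp) }
  let φQ : A →* MulAut (W ⧸ N) :=
    { toFun := fun a => QuotientGroup.congr N N (φ a) (hmap a)
      map_one' := MulEquiv.ext fun w => by
        obtain ⟨w, rfl⟩ := QuotientGroup.mk_surjective w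
        simp
      map_mul' := fun a b => MulEquiv.ext fun w => by
        obtain ⟨w, rfl⟩ := QuotientGroup.mk_surjective w
        show ((φ (a * b) w : W) : W ⧸ N) = ((φ a (φ b w) : W) : W ⧸ N)
        rw [map_mul, MulAut.mul_apply] }
  have hcard : Nat.card W = Nat.card (W ⧸ N) * Nat.card N :=
    Subgroup.card_eq_card_quotient_mul_card_subgroup N
  have hNgt : 1 < Nat.card N := Finite.one_lt_card_iff_nontrivial.2
    ((Subgroup.nontrivial_iff_ne_bot N).2 hN0)
  have hQgt : 1 < Nat.card (W ⧸ N) := by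
    rw [← Subgroup.index_eq_card]
    exact lt_of_le_of_ne (Nat.pos_of_ne_zero Subgroup.index_ne_zero_of_finite)
      (Ne.symm fun e => hN1 (Subgroup.index_eq_one.1 e))
  have hcN : (Nat.card N).Coprime q := hcop.coprime_dvd_left ⟨_, hcard.trans (mul_comm _ _)⟩
  have hcQ : (Nat.card (W ⧸ N)).Coprime q := hcop.coprime_dvd_left ⟨_, hcard⟩
  have h1 := ih N φN (hcard ▸ by nlinarith) hcN fun w hw =>
    Subtype.ext (hfree w fun a => congrArg Subtype.val (hw a))
  have h2 := ih (W ⧸ N) φQ (hcard ▸ by nlinarith) hcQ fun x hx => by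
    obtain ⟨x, rfl⟩ := QuotientGroup.mk_surjective x
    have hy : ∏ a, φ a x = 1 := hfree _ fun b => by
      rw [map_prod]
      refine Fintype.prod_equiv (Equiv.mulLeft b) _ _ fun a => ?_
      simp
    have h3 : ((∏ a, φ a x : W) : W ⧸ N) = (x : W ⧸ N) ^ Fintype.card A := by
      rw [← QuotientGroup.mk'_apply, map_prod, Finset.prod_congr rfl fun a _ => show
        QuotientGroup.mk' N (φ a x) = (x : W ⧸ N) from hx a, Finset.prod_const, Finset.card_univ]
    rw [hy, QuotientGroup.mk_one, ← Nat.card_eq_fintype_card] at h3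
    obtain ⟨m, hm⟩ := hA.exists_card_eq
    exact orderOf_eq_one_iff.1 (Nat.eq_one_of_dvd_coprimes (hcQ.pow_right m)
      (orderOf_dvd_natCard _) (hm ▸ orderOf_dvd_of_pow_eq_one h3.symm))
  have hfix : ∀ a, Nat.card (fixSub (φ a)) ≤
      Nat.card (fixSub (φN a)) * Nat.card (fixSub (φQ a)) := by
    intro a
    let f : fixSub (φ a) →* W ⧸ N := (QuotientGroup.mk' N).comp (fixSub (φ a)).subtype
    rw [Subgroup.card_eq_card_quotient_mul_card_subgroup f.ker, mul_comm,
      Nat.card_congr (QuotientGroup.quotientKerEquivRange f).toEquiv]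
    refine Nat.mul_le_mul ?_ ?_
    · refine Nat.card_le_card_of_injective
        (fun x => (⟨⟨(x.1 : W), (QuotientGroup.eq_one_iff _).1 x.2⟩, Subtype.ext x.1.2⟩ :
          fixSub (φN a))) fun x y e => ?_
      exact Subtype.ext (Subtype.ext (congrArg (fun z : fixSub (φN a) => ((z : N) : W)) e))
    · refine Nat.card_le_card_of_injective
        (fun x => (⟨x.1, ?_⟩ : fixSub (φQ a))) fun x y e => ?_
      · obtain ⟨_, ⟨y, rfl⟩⟩ := x
        show φQ a (QuotientGroup.mk' N (y : W)) = _
        exact congrArg (QuotientGroup.mk' N) y.2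
      · exact Subtype.ext (congrArg Subtype.val e :)
  calc (∏ a, Nat.card (fixSub (φ a))) ^ 3
      ≤ ((∏ a, Nat.card (fixSub (φN a))) * ∏ a, Nat.card (fixSub (φQ a))) ^ 3 := by
        rw [← Finset.prod_mul_distrib]
        exact Nat.pow_le_pow_left (Finset.prod_le_prod' fun a _ => hfix a) 3
    _ ≤ Nat.card N ^ Nat.card A * Nat.card (W ⧸ N) ^ Nat.card A := by
        rw [mul_pow]; exact Nat.mul_le_mul h1 h2
    _ = _ := by rw [← mul_pow, mul_comm, ← hcard]

/-- The case without invariant subgroups. -/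
theorem prod_fix_pow_le_irr {q : ℕ} [hq : Fact q.Prime] (hq3 : 3 ≤ q) [Fintype A] (hA : IsPGroup q A)
    {W : Type u} [CommGroup W] [Finite W] [Nontrivial W] (φ : A →* MulAut W)
    (hcop : (Nat.card W).Coprime q) (hfree : ∀ w, (∀ a, φ a w = w) → w = 1)
    (hirr : ∀ N : Subgroup W, (∀ a, ∀ w ∈ N, φ a w ∈ N) → N = ⊥ ∨ N = ⊤) :
    (∏ a, Nat.card (fixSub (φ a))) ^ 3 ≤ Nat.card W ^ Nat.card A := by
  classical
  have hrq : IsPGroup q φ.range := hA.of_surjective φ.rangeRestrict φ.rangeRestrict_surjective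
  have hne : Nontrivial φ.range := by
    refine (Subgroup.nontrivial_iff_ne_bot _).2 fun e => ?_
    obtain ⟨w, hw⟩ := exists_ne (1 : W)
    refine hw (hfree w fun a => ?_)
    have h1 : φ a ∈ φ.range := ⟨a, rfl⟩
    rw [e, Subgroup.mem_bot] at h1
    rw [h1, MulAut.one_apply]
  have : Nontrivial (Subgroup.center φ.range) := hrq.center_nontrivial
  have hdvd : q ∣ Nat.card (Subgroup.center φ.range) := by
    obtain ⟨m, hm⟩ := (hrq.to_subgroup (Subgroup.center φ.range)).exists_card_eq
    rw [hm]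
    refine dvd_pow_self q fun e => ?_
    rw [e, pow_zero] at hm
    exact (Finite.one_lt_card (α := Subgroup.center φ.range)).ne' hm
  obtain ⟨z₀, hz₀⟩ := exists_prime_orderOf_dvd_card' q hdvd
  obtain ⟨z, hz⟩ := z₀.1.2
  have hzq : φ z ^ q = 1 := by
    rw [hz]
    have h1 := pow_orderOf_eq_one z₀
    rw [hz₀] at h1
    exact congrArg (fun x : Subgroup.center φ.range => ((x : φ.range) : MulAut W)) h1
  have hzc : ∀ a, Commute (φ a) (φ z) := fun a => by
    rw [hz]
    exact congrArg Subtype.val (Subgroup.mem_center_iff.1 z₀.2 ⟨φ a, a, rfl⟩)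
  have hzfree : fixSub (φ z) = ⊥ := by
    refine (hirr _ fun a w (hw : φ z w = w) => ?_).resolve_right fun e => ?_
    · show φ z (φ a w) = φ a w
      rw [← MulAut.mul_apply, ← (hzc a).eq, MulAut.mul_apply, hw]
    · have h1 : φ z = 1 := MulEquiv.ext fun w => by
        have : w ∈ fixSub (φ z) := e ▸ Subgroup.mem_top w
        exact this
      rw [hz] at h1
      have h2 : z₀ = 1 := Subtype.ext (Subtype.ext h1)
      rw [h2, orderOf_one] at hz₀
      exact hq.out.ne_one hz₀.symm
  have : NeZero q := ⟨hq.out.ne_zero⟩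
  have hbound : (∏ a, Nat.card (fixSub (φ a))) ^ q ≤ Nat.card W ^ Nat.card A := by
    calc (∏ a, Nat.card (fixSub (φ a))) ^ q
        = ∏ j : ZMod q, ∏ a, Nat.card (fixSub (φ (a * z ^ j.val))) := by
          have hsh : ∀ b : A, ∏ a, Nat.card (fixSub (φ (a * b))) = ∏ a, Nat.card (fixSub (φ a)) :=
            fun b => Equiv.prod_comp (Equiv.mulRight b) (fun a => Nat.card (fixSub (φ a)))
          simp only [hsh, Finset.prod_const, Finset.card_univ, ZMod.card]
      _ = ∏ a, ∏ j : ZMod q, Nat.card (fixSub (φ (a * z ^ j.val))) := Finset.prod_comm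
      _ ≤ ∏ _a : A, Nat.card W := Finset.prod_le_prod' fun a _ => by
          simp only [map_mul, map_pow]
          exact prod_fix_le (W := W) hcop (φ a) (φ z) (hzc a) hzq hzfree
      _ = _ := by rw [Finset.prod_const, Finset.card_univ, Nat.card_eq_fintype_card (α := A)]
  exact (Nat.pow_le_pow_right (Finset.prod_pos fun a _ => Nat.card_pos) hq3).trans hbound

/-- The product over the group of the numbers of fixed points. -/
theorem prod_fix_pow_le {q : ℕ} [hq : Fact q.Prime] (hq3 : 3 ≤ q) [Fintype A]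
    (hA : IsPGroup q A) : ∀ (n : ℕ) (W : Type u) [CommGroup W] [Finite W] (φ : A →* MulAut W),
    Nat.card W = n → (Nat.card W).Coprime q → (∀ w, (∀ a, φ a w = w) → w = 1) →
    (∏ a, Nat.card (fixSub (φ a))) ^ 3 ≤ Nat.card W ^ Nat.card A := by
  intro n
  induction n using Nat.strong_induction_on with
  | _ n ih =>
  intro W _ _ φ hn hcop hfree
  classical
  rcases subsingleton_or_nontrivial W with hW | hW
  · rw [Nat.card_eq_one_iff_unique.2 ⟨hW, ⟨1⟩⟩, one_pow]
    refine (pow_le_one₀ (Nat.zero_le _) (le_of_eq (Finset.prod_eq_one fun a _ => ?_)))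
    exact Nat.card_eq_one_iff_unique.2 ⟨inferInstance, ⟨1⟩⟩
  by_cases hex : ∃ N : Subgroup W, N ≠ ⊥ ∧ N ≠ ⊤ ∧ ∀ a, ∀ w ∈ N, φ a w ∈ N
  · obtain ⟨N, hN0, hN1, hN⟩ := hex
    exact prod_fix_pow_le_step hq3 hA φ hcop hfree N hN0 hN1 hN fun V _ _ ψ hlt hc hf =>
      ih _ (hn ▸ hlt) V ψ rfl hc hf
  refine prod_fix_pow_le_irr hq3 hA φ hcop hfree fun N hN => ?_
  by_contra hc
  push Not at hc
  exact hex ⟨N, hc.1, hc.2, hN⟩

/-- Some element fixes at most the cube root of the points. -/
theorem exists_fix_small {q : ℕ} [Fact q.Prime] (hq3 : 3 ≤ q) (hA : IsPGroup q A) {W : Type u}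
    [CommGroup W] [Finite W] (φ : A →* MulAut W) (hcop : (Nat.card W).Coprime q)
    (hfree : ∀ w, (∀ a, φ a w = w) → w = 1) : ∃ a, Nat.card (fixSub (φ a)) ^ 3 ≤ Nat.card W := by
  classical
  letI := Fintype.ofFinite A
  by_contra! hall
  have h := prod_fix_pow_le hq3 hA _ W φ rfl hcop hfree
  rw [← Finset.prod_pow] at h
  have h2 : ∏ _a : A, Nat.card W < ∏ a, Nat.card (fixSub (φ a)) ^ 3 :=
    Finset.prod_lt_prod_of_nonempty (fun _ _ => Nat.card_pos) (fun a _ => hall a)
      ⟨1, Finset.mem_univ _⟩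
  rw [Finset.prod_const, Finset.card_univ, ← Nat.card_eq_fintype_card] at h2
  omega

end Cfsg.Agent.PrimClass
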