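import Cfsg.Agent.BlockChar.PrimClass.FixAvg

/-!
# The geometric mean of the numbers of fixed points is at most the square root

For a solvable group acting non-trivially and irreducibly on an elementary abelian group, in the
multiplicative form: the product of the squares of the numbers of fixed points is at most the
order of the module to the power of the order of the group.
-/

namespace Cfsg.Agent.PrimClass

universe u v

section

variable {W : Type u} [CommGroup W]

/-- Subgroups meeting trivially. -/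
theorem card_mul_le_of_inf_eq_bot [Finite W] (X Y : Subgroup W) (h : ∀ w ∈ X, w ∈ Y → w = 1) :
    Nat.card X * Nat.card Y ≤ Nat.card W := by
  rw [← Nat.card_prod]
  refine Nat.card_le_card_of_injective (fun z : X × Y => (z.1 : W) * z.2) ?_
  rintro ⟨a, b⟩ ⟨c, d⟩ hz
  have hz : (a : W) * b = c * d := hz
  have h1 : (c : W)⁻¹ * a = d * (b : W)⁻¹ := by
    rw [eq_mul_inv_iff_mul_eq, mul_assoc, hz, inv_mul_cancel_left]
  have h2 := h _ (X.mul_mem (X.inv_mem c.2) a.2) (h1 ▸ Y.mul_mem d.2 (Y.inv_mem b.2))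
  have h3 : (a : W) = c := (inv_mul_eq_one.1 h2).symm
  rw [h3] at hz
  exact Prod.ext (Subtype.ext h3) (Subtype.ext (mul_left_cancel hz))

variable {A : Type v} [CommGroup A] (ρ : A →* MulAut W)

/-- The common fixed points of a subgroup of operators. -/
def fixOf (D : Subgroup A) : Subgroup W := ⨅ d : D, fixSub (ρ d)

theorem mem_fixOf {D : Subgroup A} {w : W} : w ∈ fixOf ρ D ↔ ∀ d ∈ D, ρ d w = w := by
  simp [fixOf, Subgroup.mem_iInf]

theorem apply_comm (a d : A) (w : W) : ρ a (ρ d w) = ρ d (ρ a w) := by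
  rw [← MulAut.mul_apply, ← MulAut.mul_apply, ← map_mul, ← map_mul, mul_comm]

/-- The product of the translates under a subgroup of operators. -/
noncomputable def normOf [Finite A] (D : Subgroup A) : W →* W :=
  letI := Fintype.ofFinite D
  { toFun := fun w => ∏ d : D, ρ d w
    map_one' := by simp
    map_mul' := fun a b => by simp [Finset.prod_mul_distrib] }

theorem apply_normOf [Finite A] (D : Subgroup A) (a : A) (w : W) :
    ρ a (normOf ρ D w) = normOf ρ D (ρ a w) := by
  simp only [normOf, MonoidHom.coe_mk, OneHom.coe_mk, map_prod]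
  exact Finset.prod_congr rfl fun d _ => apply_comm ρ a d w

theorem normOf_mem [Finite A] (D : Subgroup A) (w : W) : normOf ρ D w ∈ fixOf ρ D := by
  letI := Fintype.ofFinite D
  rw [mem_fixOf]
  intro c hc
  simp only [normOf, MonoidHom.coe_mk, OneHom.coe_mk, map_prod]
  exact Fintype.prod_equiv (Equiv.mulLeft (⟨c, hc⟩ : D)) _ _ fun d => by
    simp [map_mul, MulAut.mul_apply]

theorem normOf_of_fixed [Finite A] {D : Subgroup A} {w : W} (hw : w ∈ fixOf ρ D) :
    normOf ρ D w = w ^ Nat.card D := by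
  letI := Fintype.ofFinite D
  rw [mem_fixOf] at hw
  simp only [normOf, MonoidHom.coe_mk, OneHom.coe_mk]
  rw [Finset.prod_congr rfl fun d _ => hw d.1 d.2, Finset.prod_const, Finset.card_univ,
    Nat.card_eq_fintype_card]

end

/-- An automorphism preserving a subgroup of a finite group maps it onto itself. -/
theorem map_eq_of_invariant {W : Type u} [Group W] [Finite W] (f : MulAut W) {X : Subgroup W}
    (h : ∀ w ∈ X, f w ∈ X) : X.map (f : W →* W) = X := by
  refine Subgroup.eq_of_le_of_card_ge (fun y hy => ?_) ?_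
  · obtain ⟨w, hw, rfl⟩ := hy
    exact h w hw
  · rw [Subgroup.card_map_of_injective f.injective]

/-- **One coset of an abelian operator group.** -/
theorem prod_fix_sq_le {A : Type v} [CommGroup A] [Fintype A] : ∀ (n : ℕ) (W : Type u)
    [CommGroup W] [Finite W], Nat.card W = n → ∀ (ρ : A →* MulAut W) (x : MulAut W),
    (∀ a, ∃ a', x * ρ a = ρ a' * x) → (Nat.card W).Coprime (Nat.card A) →
    (∀ w, (∀ a, ρ a w = w) → w = 1) →
    ∏ a : A, Nat.card (fixSub (x * ρ a)) ^ 2 ≤ Nat.card W ^ Nat.card A := by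
  intro n
  induction n using Nat.strong_induction_on with
  | _ n ih =>
  intro W _ _ hn ρ x hnorm hcop hfix
  classical
  by_cases hW : Nat.card W = 1
  · have : Subsingleton W := (Nat.card_eq_one_iff_unique.1 hW).1
    refine le_of_le_of_eq (Finset.prod_le_pow_card _ _ 1 fun a _ => ?_) ?_
    · have h1 : Nat.card (fixSub (x * ρ a)) ≤ Nat.card W := Subgroup.card_le_card_group _
      calc Nat.card (fixSub (x * ρ a)) ^ 2 ≤ 1 ^ 2 := Nat.pow_le_pow_left (hW ▸ h1) 2
        _ = 1 := one_pow 2
    · rw [hW, one_pow, one_pow]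
  have hcopX : ∀ (X : Subgroup W) (w : W) (k : ℕ), k ∣ Nat.card A → w ^ k ∈ X → w ∈ X := by
    intro X w k hk h
    obtain ⟨m, hm⟩ := exists_pow_eq_self_of_coprime
      ((hcop.coprime_dvd_right hk).symm.coprime_dvd_right (orderOf_dvd_natCard w))
    exact hm ▸ X.pow_mem h m
  by_cases hred : ∃ X : Subgroup W, X ≠ ⊥ ∧ X ≠ ⊤ ∧ (∀ a, ∀ w ∈ X, ρ a w ∈ X) ∧ ∀ w ∈ X, x w ∈ X
  · obtain ⟨X, hX1, hXt, hXA, hXx⟩ := hred
    let S : Subgroup (MulAut W) :=
      { carrier := {f | X.map (f : W →* W) = X}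
        one_mem' := Subgroup.map_id X
        mul_mem' := fun {f g} (hf : X.map (f : W →* W) = X) (hg : X.map (g : W →* W) = X) =>
          show X.map ((f * g : MulAut W) : W →* W) = X by
            conv_rhs => rw [← hf, ← hg, Subgroup.map_map]
            rfl
        inv_mem' := fun {f} (hf : X.map (f : W →* W) = X) =>
          show X.map ((f⁻¹ : MulAut W) : W →* W) = X by
            conv_lhs => rw [← hf, Subgroup.map_map]
            ext w
            simp }
    have hρS : ∀ a, ρ a ∈ S := fun a => map_eq_of_invariant _ (hXA a)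
    have hxS : x ∈ S := map_eq_of_invariant _ hXx
    let r : S →* MulAut X :=
      { toFun := fun f => (MulEquiv.subgroupMap (f : MulAut W) X).trans
          (MulEquiv.subgroupCongr f.2)
        map_one' := by ext w; rfl
        map_mul' := fun f g => by ext w; rfl }
    let q : S →* MulAut (W ⧸ X) :=
      { toFun := fun f => QuotientGroup.congr X X (f : MulAut W) f.2
        map_one' := by
          ext w
          obtain ⟨w, rfl⟩ := QuotientGroup.mk_surjective w
          rfl
        map_mul' := fun f g => by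
          ext w
          obtain ⟨w, rfl⟩ := QuotientGroup.mk_surjective w
          rfl }
    have hr : ∀ (f : S) (w : X), (r f w : W) = (f : MulAut W) w := fun f w => rfl
    have hq : ∀ (f : S) (w : W), q f (w : W ⧸ X) = ((f : MulAut W) w : W) := fun f w => rfl
    let ρS : A →* S := ρ.codRestrict S hρS
    have hcX : Nat.card X < n := by
      rw [← hn]
      exact lt_of_le_of_ne (Subgroup.card_le_card_group X)
        fun h => hXt (Subgroup.eq_top_of_card_eq X h)
    have hcQ : Nat.card (W ⧸ X) < n := by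
      rw [← hn]
      have h1 := X.one_lt_card_iff_ne_bot.2 hX1
      have h2 : Nat.card W = Nat.card (W ⧸ X) * Nat.card X :=
        Subgroup.card_eq_card_quotient_mul_card_subgroup X
      have h3 : 0 < Nat.card (W ⧸ X) := Nat.card_pos
      nlinarith
    have hnormS : ∀ a, ∃ a', (⟨x, hxS⟩ : S) * ρS a = ρS a' * ⟨x, hxS⟩ := fun a => by
      obtain ⟨a', h⟩ := hnorm a
      exact ⟨a', Subtype.ext h⟩
    have hbX := ih _ hcX X rfl (r.comp ρS) (r ⟨x, hxS⟩)
      (fun a => by
        obtain ⟨a', h⟩ := hnormS a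
        exact ⟨a', by rw [MonoidHom.comp_apply, MonoidHom.comp_apply, ← map_mul, ← map_mul, h]⟩)
      (hcop.coprime_dvd_left (Subgroup.card_subgroup_dvd_card X))
      (fun w hw => Subtype.ext (hfix w fun a => congrArg Subtype.val (hw a)))
    have hbQ := ih _ hcQ (W ⧸ X) rfl (q.comp ρS) (q ⟨x, hxS⟩)
      (fun a => by
        obtain ⟨a', h⟩ := hnormS a
        exact ⟨a', by rw [MonoidHom.comp_apply, MonoidHom.comp_apply, ← map_mul, ← map_mul, h]⟩)
      (hcop.coprime_dvd_left (Subgroup.card_quotient_dvd_card X))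
      (fun w hw => by
        obtain ⟨w, rfl⟩ := QuotientGroup.mk_surjective w
        rw [QuotientGroup.eq_one_iff]
        refine hcopX X w (Nat.card A) dvd_rfl ?_
        have h1 : normOf ρ ⊤ w = 1 := hfix _ fun a => mem_fixOf ρ |>.1 (normOf_mem ρ ⊤ w) a trivial
        have h2 : ((normOf ρ ⊤ w : W) : W ⧸ X) = (w : W ⧸ X) ^ Nat.card A := by
          letI := Fintype.ofFinite (⊤ : Subgroup A)
          simp only [normOf, MonoidHom.coe_mk, OneHom.coe_mk]
          rw [← QuotientGroup.mk'_apply X (∏ d, ρ (d : (⊤ : Subgroup A)) w), map_prod,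
            Finset.prod_congr rfl (fun (d : (⊤ : Subgroup A)) _ => show QuotientGroup.mk' X (ρ (d : A) w) = (w : W ⧸ X)
              from (hq (ρS d) w).symm.trans (hw d)), Finset.prod_const, Finset.card_univ,
            ← Nat.card_eq_fintype_card, Subgroup.card_top]
        rw [h1, QuotientGroup.mk_one, ← QuotientGroup.mk_pow] at h2
        exact (QuotientGroup.eq_one_iff _).1 h2.symm)
    have hstep : ∀ a : A, Nat.card (fixSub (x * ρ a)) ≤
        Nat.card (fixSub (r ⟨x, hxS⟩ * (r.comp ρS) a)) *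
          Nat.card (fixSub (q ⟨x, hxS⟩ * (q.comp ρS) a)) := by
      intro a
      let π := (QuotientGroup.mk' X).comp (fixSub (x * ρ a)).subtype
      rw [Subgroup.card_eq_card_quotient_mul_card_subgroup π.ker, mul_comm,
        Nat.card_congr (QuotientGroup.quotientKerEquivRange π).toEquiv]
      gcongr
      · refine Nat.card_le_card_of_injective
          (fun w : π.ker => (⟨⟨((w : fixSub (x * ρ a)) : W),
              (QuotientGroup.eq_one_iff _).1 w.2⟩, Subtype.ext (w : fixSub (x * ρ a)).2⟩ :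
            fixSub (r ⟨x, hxS⟩ * (r.comp ρS) a))) fun u v huv => ?_
        exact Subtype.ext (Subtype.ext (congrArg (fun z => ((z : X) : W))
          (congrArg Subtype.val huv)))
      · refine Subgroup.card_le_of_le ?_
        rintro _ ⟨w, rfl⟩
        show QuotientGroup.mk' X ((x * ρ a) (w : W)) = QuotientGroup.mk' X (w : W)
        rw [w.2]
    calc ∏ a : A, Nat.card (fixSub (x * ρ a)) ^ 2
        ≤ ∏ a : A, (Nat.card (fixSub (r ⟨x, hxS⟩ * (r.comp ρS) a)) ^ 2 *
            Nat.card (fixSub (q ⟨x, hxS⟩ * (q.comp ρS) a)) ^ 2) :=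
          Finset.prod_le_prod' fun a _ => by
            rw [← mul_pow]
            exact Nat.pow_le_pow_left (hstep a) 2
      _ ≤ Nat.card X ^ Nat.card A * Nat.card (W ⧸ X) ^ Nat.card A := by
          rw [Finset.prod_mul_distrib]
          exact Nat.mul_le_mul hbX hbQ
      _ = Nat.card W ^ Nat.card A := by
          rw [← mul_pow, mul_comm, ← Subgroup.card_eq_card_quotient_mul_card_subgroup]
  · push_neg at hred
    have hirr : ∀ X : Subgroup W, (∀ a, ∀ w ∈ X, ρ a w ∈ X) → (∀ w ∈ X, x w ∈ X) →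
        X ≠ ⊥ → X = ⊤ := fun X h1 h2 h3 => by
      by_contra h4
      obtain ⟨w, hw, hw'⟩ := hred X h3 h4 h1
      exact hw' (h2 w hw)
    let s : Finset (Subgroup A) := {D | fixOf ρ D ≠ ⊥}
    letI := Fintype.ofFinite (Subgroup A)
    have hs : ({D | fixOf ρ D ≠ ⊥} : Set (Subgroup A)).Nonempty := by
      refine ⟨⊥, fun h => hW ?_⟩
      have h1 : fixOf ρ (⊥ : Subgroup A) = ⊤ := eq_top_iff.2 fun w _ => (mem_fixOf ρ).2
        fun d hd => by rw [Subgroup.mem_bot.1 hd, map_one, MulAut.one_apply]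
      rw [h] at h1
      rw [← Subgroup.card_top (G := W), ← h1, Subgroup.card_bot]
    obtain ⟨D, hD, hmax⟩ := Set.Finite.exists_maximal (Set.toFinite _) hs
    have hbig : ∀ D' : Subgroup A, ¬ D' ≤ D → ∀ w, w ∈ fixOf ρ D → w ∈ fixOf ρ D' → w = 1 := by
      intro D' hD' w h1 h2
      by_contra hw
      refine hD' (le_trans le_sup_right (hmax (y := D ⊔ D') ?_ le_sup_left))
      intro h3
      have h4 : w ∈ fixOf ρ (D ⊔ D') := by
        rw [mem_fixOf] at h1 h2 ⊢
        intro d hd
        obtain ⟨a, ha, b, hb, rfl⟩ := Subgroup.mem_sup.1 hd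
        rw [map_mul, MulAut.mul_apply, h2 b hb, h1 a ha]
      rw [h3] at h4
      exact hw (Subgroup.mem_bot.1 h4)
    set U := fixOf ρ D with hU
    have hUA : ∀ a, ∀ w ∈ U, ρ a w ∈ U := fun a w hw => (mem_fixOf ρ).2 fun d hd => by
      rw [apply_comm ρ d a w, (mem_fixOf ρ).1 hw d hd]
    let D' : Subgroup A := ((D.map ρ).map (MulAut.conj x).toMonoidHom).comap ρ
    have hxU : ∀ w ∈ U, x w ∈ fixOf ρ D' := fun w hw => (mem_fixOf ρ).2 fun a ha => by
      obtain ⟨_, ⟨d, hd, rfl⟩, hxa⟩ := ha
      rw [← hxa]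
      simp [(mem_fixOf ρ).1 hw d hd]
    by_cases hDD : D' ≤ D
    · -- the fixed points of `D` are everything
      have hUx : ∀ w ∈ U, x w ∈ U := by
        intro w hw
        -- `x` maps `D` into itself
        have hsub : ∀ d ∈ D, ∃ d' ∈ D, x * ρ d = ρ d' * x := fun d hd => by
          obtain ⟨a', ha'⟩ := hnorm d
          refine ⟨a', hDD ⟨ρ d, ⟨d, hd, rfl⟩, ?_⟩, ha'⟩
          show x * ρ d * x⁻¹ = ρ a'
          rw [ha', mul_inv_cancel_right]
        -- hence `ρ D` is conjugated onto itself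
        have him : (D.map ρ).map (MulAut.conj x).toMonoidHom = D.map ρ := by
          refine Subgroup.eq_of_le_of_card_ge (fun y hy => ?_) ?_
          · obtain ⟨_, ⟨d, hd, rfl⟩, rfl⟩ := hy
            obtain ⟨d', hd', h⟩ := hsub d hd
            exact ⟨d', hd', show ρ d' = x * ρ d * x⁻¹ by rw [h, mul_inv_cancel_right]⟩
          · rw [Subgroup.card_map_of_injective (f := (MulAut.conj x).toMonoidHom) (MulAut.conj x).injective]
        have hle : D ≤ D' := fun d hd => by
          show ρ d ∈ (D.map ρ).map (MulAut.conj x).toMonoidHom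
          rw [him]
          exact ⟨d, hd, rfl⟩
        exact (mem_fixOf ρ).2 fun d hd => (mem_fixOf ρ).1 (hxU w hw) d (hle hd)
      have hUtop : U = ⊤ := hirr U hUA hUx hD
      have hDne : ∀ a : A, a ∉ D → ∀ w, ρ a w = w → w = 1 := by
        intro a ha w hw
        refine hbig (Subgroup.zpowers a) (fun h => ha (h (Subgroup.mem_zpowers a))) w
          (hUtop ▸ Subgroup.mem_top w) ((mem_fixOf ρ).2 fun b hb => ?_)
        obtain ⟨k, rfl⟩ := hb
        have h1 : ρ a ∈ MulAction.stabilizer (MulAut W) w := hw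
        have h2 := Subgroup.zpow_mem _ h1 k
        rw [← map_zpow] at h2
        exact h2
      let T : A → Finset A := fun a => {b | a⁻¹ * b ∉ D}
      let k := ({b | b ∉ D} : Finset A).card
      have hTc : ∀ a, (T a).card = k := fun a => by
        refine Finset.card_nbij' (fun b => a⁻¹ * b) (fun b => a * b) ?_ ?_ ?_ ?_ <;>
          simp [T, Set.MapsTo, Set.LeftInvOn]
      have hk : k ≠ 0 := by
        refine Finset.card_ne_zero.2 ?_
        by_contra hne
        rw [Finset.not_nonempty_iff_eq_empty] at hne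
        obtain ⟨w, hw1⟩ : ∃ w : W, w ≠ 1 := by
          by_contra hall
          push_neg at hall
          exact hW (Nat.card_eq_one_iff_unique.2 ⟨⟨fun a b => by rw [hall a, hall b]⟩, ⟨1⟩⟩)
        refine hw1 (hfix w fun a => (mem_fixOf ρ).1 (hUtop ▸ Subgroup.mem_top w) a ?_)
        by_contra ha
        exact Finset.eq_empty_iff_forall_notMem.1 hne a (Finset.mem_filter.2 ⟨Finset.mem_univ _, ha⟩)
      have hpair : ∀ a, ∀ b ∈ T a,
          Nat.card (fixSub (x * ρ a)) * Nat.card (fixSub (x * ρ b)) ≤ Nat.card W := by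
        intro a b hb
        refine card_mul_le_of_inf_eq_bot _ _ fun w h1 h2 => ?_
        refine hDne (a⁻¹ * b) (Finset.mem_filter.1 hb).2 w ?_
        have h3 : ρ a w = ρ b w := x.injective (h1.trans h2.symm)
        rw [map_mul, MulAut.mul_apply, ← h3, ← MulAut.mul_apply, ← map_mul, inv_mul_cancel,
          map_one, MulAut.one_apply]
      have h1 : ∏ a : A, ∏ b ∈ T a, (Nat.card (fixSub (x * ρ a)) * Nat.card (fixSub (x * ρ b))) ≤
          ∏ a : A, ∏ _b ∈ T a, Nat.card W :=
        Finset.prod_le_prod' fun a _ => Finset.prod_le_prod' (hpair a)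
      simp only [Finset.prod_mul_distrib, Finset.prod_const, hTc, Finset.card_univ] at h1
      have h2 : ∏ a : A, ∏ b ∈ T a, Nat.card (fixSub (x * ρ b)) =
          ∏ b : A, ∏ _a ∈ T b, Nat.card (fixSub (x * ρ b)) := by
        refine Finset.prod_comm' fun a b => ?_
        simp only [T, Finset.mem_univ, Finset.mem_filter, true_and, and_true]
        rw [← D.inv_mem_iff, mul_inv_rev, inv_inv]
      simp only [Finset.prod_const, hTc] at h2
      rw [h2, Finset.prod_pow, ← pow_mul, mul_comm k, pow_mul,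
        ← Nat.card_eq_fintype_card] at h1
      rw [Finset.prod_pow]
      refine (Nat.pow_le_pow_iff_left hk).1 ?_
      rw [← pow_mul, mul_comm, pow_mul, sq]
      exact h1
    · -- the fixed points of `D` are small
      have hU2 : Nat.card U ^ 2 ≤ Nat.card W := by
        have h1 : Nat.card (U.map (x : W →* W)) = Nat.card U :=
          Subgroup.card_map_of_injective x.injective
        rw [sq]
        nth_rewrite 2 [← h1]
        refine card_mul_le_of_inf_eq_bot _ _ fun w hw hw' => ?_
        obtain ⟨v, hv, rfl⟩ := hw'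
        exact hbig D' hDD _ hw (hxU v hv)
      let V := (normOf ρ D).ker
      have hVA : ∀ a, ∀ w ∈ V, ρ a w ∈ V := fun a w hw => by
        show normOf ρ D (ρ a w) = 1
        rw [← apply_normOf, show normOf ρ D w = 1 from hw, map_one]
      have hVU : ∀ w ∈ U, w ∈ V → w = 1 := fun w h1 h2 => by
        refine Subgroup.mem_bot.1 (hcopX ⊥ w _ (Subgroup.card_subgroup_dvd_card D) ?_)
        rw [Subgroup.mem_bot, ← normOf_of_fixed ρ h1]
        exact h2
      have hlarge : Nat.card W ≤ Nat.card U * Nat.card V := by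
        rw [Subgroup.card_eq_card_quotient_mul_card_subgroup V,
          Nat.card_congr (QuotientGroup.quotientKerEquivRange (normOf ρ D)).toEquiv]
        exact Nat.mul_le_mul_right _ (Subgroup.card_le_of_le fun y ⟨w, hw⟩ => hw ▸ normOf_mem ρ D w)
      let Z : Subgroup W := ⨅ i : ℕ, V.comap ((x ^ i : MulAut W) : W →* W)
      have hmemZ : ∀ w, w ∈ Z ↔ ∀ i : ℕ, (x ^ i) w ∈ V := fun w => Subgroup.mem_iInf
      have hshift : ∀ (i : ℕ) (a : A), ∃ a', x ^ i * ρ a = ρ a' * x ^ i := fun i => by
        induction i with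
        | zero => exact fun a => ⟨a, by simp⟩
        | succ i hi =>
          intro a
          obtain ⟨a₁, h1⟩ := hnorm a
          obtain ⟨a₂, h2⟩ := hi a₁
          exact ⟨a₂, by rw [pow_succ, mul_assoc, h1, ← mul_assoc, h2, mul_assoc]⟩
      have hZ : Z = ⊥ := by
        by_contra hne
        have h1 := hirr Z (fun a w hw => (hmemZ _).2 fun i => by
            obtain ⟨a', ha'⟩ := hshift i a
            rw [← MulAut.mul_apply, ha', MulAut.mul_apply]
            exact hVA _ _ ((hmemZ _).1 hw i))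
          (fun w hw => (hmemZ _).2 fun i => by
            rw [← MulAut.mul_apply, ← pow_succ]
            exact (hmemZ _).1 hw (i + 1)) hne
        refine hD (eq_bot_iff.2 fun w hw => Subgroup.mem_bot.2 (hVU w hw ?_))
        have h2 := (hmemZ w).1 (h1 ▸ Subgroup.mem_top w) 0
        simpa using h2
      refine le_of_le_of_eq (Finset.prod_le_pow_card _ _ (Nat.card W) fun a _ => ?_)
        (by rw [Finset.card_univ, ← Nat.card_eq_fintype_card (α := A)])
      refine le_trans (Nat.pow_le_pow_left ?_ 2) hU2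
      refine Nat.le_of_mul_le_mul_right (le_trans (card_mul_le_of_inf_eq_bot _ V ?_) hlarge)
        Nat.card_pos
      intro w hw hwV
      rw [← Subgroup.mem_bot, ← hZ, hmemZ]
      have h3 : ∀ i : ℕ, ∃ c, (x ^ i) w = ρ c w := fun i => by
        induction i with
        | zero => exact ⟨1, by simp⟩
        | succ i hi =>
          obtain ⟨c, hc⟩ := hi
          obtain ⟨b, hb⟩ := hnorm a⁻¹
          obtain ⟨c', hc'⟩ := hshift i b
          refine ⟨c' * c, ?_⟩
          have h4 : x w = ρ b w := by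
            have h5 : (x * ρ a) w = w := hw
            calc x w = (x * ρ a⁻¹) ((ρ a) w) := by
                  simp [MulAut.mul_apply]
              _ = ρ b ((x * ρ a) w) := by rw [hb]; simp [MulAut.mul_apply]
              _ = ρ b w := by rw [h5]
          rw [pow_succ, MulAut.mul_apply, h4, ← MulAut.mul_apply, hc', MulAut.mul_apply, hc,
            map_mul, MulAut.mul_apply]
      intro i
      obtain ⟨c, hc⟩ := h3 i
      rw [hc]
      exact hVA _ _ hwV

open scoped IsMulCommutative commutatorElement in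
/-- **Solvable groups.** -/
theorem prod_fix_sq_le_of_solvable {G : Type v} [Group G] [Fintype G] [Group.IsSolvable G] {p : ℕ}
    [Fact p.Prime] {W : Type u} [CommGroup W] [Finite W] (hW : IsPGroup p W) (ψ : G →* MulAut W)
    (hirr : ∀ X : Subgroup W, (∀ g, ∀ w ∈ X, ψ g w ∈ X) → X = ⊥ ∨ X = ⊤) (hne : ψ ≠ 1) :
    ∏ g : G, Nat.card (fixSub (ψ g)) ^ 2 ≤ Nat.card W ^ Nat.card G := by
  classical
  letI := Fintype.ofFinite W
  -- an abelian normal subgroup of the image
  obtain ⟨m, hm⟩ : ∃ m, derivedSeries G m = ⊥ := Group.IsSolvable.solvable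
  have hex : ∃ m, (derivedSeries G m).map ψ = ⊥ := ⟨m, by rw [hm, Subgroup.map_bot]⟩
  obtain ⟨j, hj⟩ : ∃ j, Nat.find hex = j + 1 := by
    refine Nat.exists_eq_succ_of_ne_zero fun h0 => hne ?_
    have h1 := Nat.find_spec hex
    rw [h0, derivedSeries_zero, ← MonoidHom.range_eq_map] at h1
    exact MonoidHom.range_eq_bot_iff.1 h1
  let B : Subgroup (MulAut W) := (derivedSeries G j).map ψ
  have hBne : B ≠ ⊥ := Nat.find_min hex (by omega)
  have hcomm : ∀ b ∈ B, ∀ c ∈ B, b * c = c * b := by
    rintro _ ⟨s, hs, rfl⟩ _ ⟨t, ht, rfl⟩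
    have h1 : ψ ⁅s, t⁆ = 1 := by
      have h2 := Nat.find_spec hex
      rw [hj, derivedSeries_succ] at h2
      exact Subgroup.mem_bot.1 (h2 ▸ Subgroup.mem_map_of_mem ψ
        (Subgroup.commutator_mem_commutator hs ht))
    rwa [map_commutatorElement, commutatorElement_eq_one_iff_mul_comm] at h1
  have hBn : ∀ g, ∀ b ∈ B, ψ g * b * (ψ g)⁻¹ ∈ B := by
    rintro g _ ⟨s, hs, rfl⟩
    exact ⟨g * s * g⁻¹, (derivedSeries_normal G j).conj_mem s hs g, by simp⟩
  -- fixed points of a part of `B`
  have hfixB : ∀ S : Subgroup (MulAut W), S ≤ B → S ≠ ⊥ →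
      (∀ g, ∀ b ∈ S, ψ g * b * (ψ g)⁻¹ ∈ S) → ∀ w, (∀ b ∈ S, b w = w) → w = 1 := by
    intro S hSB hS1 hSn
    let X : Subgroup W := ⨅ b : S, fixSub (b : MulAut W)
    have hmem : ∀ w, w ∈ X ↔ ∀ b ∈ S, b w = w := fun w => by simp [X, Subgroup.mem_iInf]
    rcases hirr X (fun g w hw => (hmem _).2 fun b hb => by
        have h1 := hSn g⁻¹ b hb
        have h2 := (hmem w).1 hw _ h1
        rw [map_inv, inv_inv, MulAut.mul_apply, MulAut.mul_apply] at h2
        calc b (ψ g w) = ψ g ((ψ g)⁻¹ (b (ψ g w))) := by simp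
          _ = ψ g w := by rw [h2]) with h | h
    · exact fun w hw => Subgroup.mem_bot.1 (h ▸ (hmem w).2 hw)
    · refine absurd (eq_bot_iff.2 fun b hb => Subgroup.mem_bot.2 (MulEquiv.ext fun w => ?_)) hS1
      exact (hmem w).1 (h ▸ Subgroup.mem_top w) b hb
  have hfix := hfixB B le_rfl hBne hBn
  have hcop : (Nat.card W).Coprime (Nat.card B) := by
    obtain ⟨k, hk⟩ := IsPGroup.iff_card.1 hW
    rw [hk]
    refine Nat.Coprime.pow_left k ((Fact.out : p.Prime).coprime_iff_not_dvd.2 fun hdvd => ?_)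
    obtain ⟨b, hb⟩ := exists_prime_orderOf_dvd_card' p hdvd
    let S : Subgroup (MulAut W) :=
      { carrier := {b | b ∈ B ∧ b ^ p = 1}
        one_mem' := ⟨B.one_mem, one_pow p⟩
        mul_mem' := fun {u v} hu hv => ⟨B.mul_mem hu.1 hv.1, by
          rw [(show Commute u v from hcomm u hu.1 v hv.1).mul_pow, hu.2, hv.2, one_mul]⟩
        inv_mem' := fun {u} hu => ⟨B.inv_mem hu.1, by rw [inv_pow, hu.2, inv_one]⟩ }
    have hbS : (b : MulAut W) ∈ S := ⟨b.2, by
      rw [← Subgroup.coe_pow, ← hb, pow_orderOf_eq_one, Subgroup.coe_one]⟩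
    have hS1 : S ≠ ⊥ := fun h => by
      rw [h, Subgroup.mem_bot] at hbS
      rw [show b = 1 from Subtype.ext hbS, orderOf_one] at hb
      exact (Fact.out : p.Prime).ne_one hb.symm
    have hSn : ∀ g, ∀ b ∈ S, ψ g * b * (ψ g)⁻¹ ∈ S := fun g u hu =>
      ⟨hBn g u hu.1, by rw [conj_pow, hu.2, mul_one, mul_inv_cancel]⟩
    have hSp : IsPGroup p S := fun u => ⟨1, Subtype.ext (by rw [pow_one]; exact u.2.2)⟩
    have hk0 : k ≠ 0 := fun h0 => hBne (eq_bot_iff.2 fun b _ => Subgroup.mem_bot.2 (by
      have : Subsingleton W := (Nat.card_eq_one_iff_unique.1 (by rw [hk, h0, pow_zero])).1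
      exact MulEquiv.ext fun w => Subsingleton.elim _ _))
    letI : MulAction S W :=
      { smul := fun b w => (b : MulAut W) w
        one_smul := fun _ => rfl
        mul_smul := fun _ _ _ => rfl }
    obtain ⟨w, hw, hw1⟩ := hSp.exists_fixed_point_of_prime_dvd_card_of_fixed_point W
      (hk ▸ dvd_pow_self p hk0) (a := (1 : W)) (fun b => map_one (b : MulAut W))
    exact hw1 (hfixB S (fun _ h => h.1) hS1 hSn w fun b hb => hw ⟨b, hb⟩).symm
  haveI : IsMulCommutative B := ⟨⟨fun u v => Subtype.ext (hcomm u u.2 v v.2)⟩⟩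
  letI := Fintype.ofFinite B
  have hcoset : ∀ g : G, ∏ a : B, Nat.card (fixSub (ψ g * (a : MulAut W))) ^ 2 ≤
      Nat.card W ^ Nat.card B := fun g =>
    prod_fix_sq_le _ W rfl B.subtype (ψ g) (fun a =>
      ⟨⟨_, hBn g a a.2⟩, show ψ g * (a : MulAut W) = ψ g * a * (ψ g)⁻¹ * ψ g by
        rw [inv_mul_cancel_right]⟩) hcop (fun w hw => hfix w fun b hb => hw ⟨b, hb⟩)
  have h1 : ∏ g : G, ∏ a : B, Nat.card (fixSub (ψ g * (a : MulAut W))) ^ 2 =
      (∏ g : G, Nat.card (fixSub (ψ g)) ^ 2) ^ Nat.card B := by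
    rw [Finset.prod_comm, Nat.card_eq_fintype_card]
    rw [← Finset.card_univ, ← Finset.prod_const]
    refine Finset.prod_congr rfl fun a _ => ?_
    obtain ⟨s, _, hs⟩ := a.2
    refine Fintype.prod_equiv (Equiv.mulRight s) _ _ fun g => ?_
    simp [hs]
  have h2 := Finset.prod_le_prod' (s := (Finset.univ : Finset G)) fun g _ => hcoset g
  rw [h1, Finset.prod_const, Finset.card_univ, ← Nat.card_eq_fintype_card, ← pow_mul,
    mul_comm (Nat.card B), pow_mul] at h2
  exact (Nat.pow_le_pow_iff_left Nat.card_pos.ne').1 h2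

end Cfsg.Agent.PrimClass
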