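import Cfsg.Agent.BlockChar.PrimClass.FixAvg
import Cfsg.Agent.BlockChar.PrimClass.Restrict
import Cfsg.Agent.OddLocal.Basic
import Cfsg.Agent.Char.Integral

/-!
# Primitive characters of metanilpotent odd groups with two prime divisors
-/

namespace Cfsg.Agent.PrimClass

open Cfsg.Agent.Char
open scoped commutatorElement

universe u

variable {G : Type u} [Group G] [Finite G]

/-- A nilpotent normal subgroup all of whose characteristic abelian pieces are central has class two. -/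
theorem commutator_le_center (hab : ∀ A : Subgroup G, A.Normal → (∀ a ∈ A, ∀ b ∈ A, a * b = b * a) →
      A ≤ Subgroup.center G) (R : Subgroup G) [R.Normal] (hnil : Group.IsNilpotent R) :
    ⁅R, R⁆ ≤ Subgroup.center G := by
  let L : ℕ → Subgroup G := fun n => (Subgroup.lowerCentralSeries (⊤ : Subgroup R) n).map R.subtype
  have hL0 : L 0 = R := by
    simp [L, ← MonoidHom.range_eq_map]
  have hLs : ∀ n, L (n + 1) = ⁅L n, R⁆ := fun n => by
    show Subgroup.map _ _ = _
    rw [Subgroup.lowerCentralSeries_succ, Subgroup.map_commutator]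
    simp [L, ← MonoidHom.range_eq_map]
  have hLn : ∀ n, (L n).Normal := fun n => by
    induction n with
    | zero => rw [hL0]; infer_instance
    | succ n ih => rw [hLs]; exact Subgroup.commutator_normal _ _
  have hLle : ∀ n, L n ≤ R := fun n => Subgroup.map_subtype_le _
  have hanti : ∀ n, L (n + 1) ≤ L 1 := fun n => by
    induction n with
    | zero => exact le_rfl
    | succ n ih =>
      rw [hLs (n + 1), hLs 0, hL0]
      exact Subgroup.commutator_mono (hLle _) le_rfl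
  have hstep : ∀ n, L (n + 3) = ⊥ → L (n + 2) = ⊥ := by
    intro n h
    have h1 : ⁅L 1, L (n + 1)⁆ = ⊥ := by
      rw [hLs 0, hL0]
      refine Subgroup.commutator_commutator_eq_bot_of_rotate ?_ ?_
      · rw [Subgroup.commutator_comm R (L (n + 1)), ← hLs, ← hLs, h]
      · rw [← hLs, ← hLs, h]
    have h2 : L (n + 1) ≤ Subgroup.center G := hab _ (hLn _) fun a ha b hb =>
      commutatorElement_eq_one_iff_mul_comm.1 (Subgroup.mem_bot.1
        (h1 ▸ Subgroup.commutator_mem_commutator (hanti n ha) hb))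
    rw [hLs (n + 1), eq_bot_iff, Subgroup.commutator_le]
    intro a ha b _
    rw [Subgroup.mem_bot, commutatorElement_eq_one_iff_mul_comm]
    exact (Subgroup.mem_center_iff.1 (h2 ha) b).symm
  obtain ⟨m, hm⟩ := (Subgroup.nilpotent_iff_lowerCentralSeries).1 hnil
  have hm' : L m = ⊥ := by show Subgroup.map _ _ = ⊥; rw [hm, Subgroup.map_bot]
  have h2 : L 2 = ⊥ := by
    by_contra hne
    have : ∀ k, L (k + 2) ≠ ⊥ := fun k => by
      induction k with
      | zero => exact hne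
      | succ k ih => exact fun h => ih (hstep k h)
    exact this m (by rw [hLs, hLs, hm', Subgroup.commutator_bot_left, Subgroup.commutator_bot_left])
  refine hab _ (Subgroup.commutator_normal _ _) fun a ha b hb => ?_
  have h3 : ⁅L 1, R⁆ = ⊥ := by rw [← hLs 1]; exact h2
  have h4 : ⁅R, R⁆ = L 1 := by rw [hLs 0, hL0]
  refine commutatorElement_eq_one_iff_mul_comm.1 (Subgroup.mem_bot.1 ?_)
  rw [← h3]
  exact Subgroup.commutator_mem_commutator (h4 ▸ ha) (Subgroup.commutator_le_self R hb)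

/-- An element of a subgroup lies in `K` if all elements of prime power order of it do. -/
theorem mem_of_prime_pow {N K : Subgroup G}
    (h : ∀ x ∈ N, IsPrimePow (orderOf x) → x ∈ K) : ∀ x ∈ N, x ∈ K := by
  suffices hall : ∀ n : ℕ, ∀ x ∈ N, orderOf x = n → x ∈ K from fun x hx => hall _ x hx rfl
  intro n
  induction n using Nat.recOnPrimeCoprime with
  | zero => exact fun x _ hx => absurd hx (orderOf_pos x).ne'
  | prime_pow t k ht =>
    intro x hx hxo
    rcases Nat.eq_zero_or_pos k with rfl | hk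
    · rw [pow_zero, orderOf_eq_one_iff] at hxo
      rw [hxo]; exact one_mem _
    · exact h x hx (hxo ▸ ⟨t, k, ht.prime, hk, rfl⟩)
  | coprime a b ha hb hab iha ihb =>
    intro x hx hxo
    have h1 : x ^ a ∈ K := ihb _ (pow_mem hx a) (by
      rw [orderOf_pow' x (by omega), hxo, Nat.gcd_eq_right (dvd_mul_right a b),
        Nat.mul_div_cancel_left _ (by omega)])
    have h2 : x ^ b ∈ K := iha _ (pow_mem hx b) (by
      rw [orderOf_pow' x (by omega), hxo, Nat.gcd_eq_right (dvd_mul_left b a),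
        Nat.mul_div_cancel _ (by omega)])
    have h3 : (Nat.gcd a b : ℤ) = 1 := by exact_mod_cast hab
    have h4 := Nat.gcd_eq_gcd_ab a b
    rw [h3] at h4
    have h5 : x = (x ^ a) ^ Nat.gcdA a b * (x ^ b) ^ Nat.gcdB a b := by
      rw [← zpow_natCast x a, ← zpow_natCast x b, ← zpow_mul, ← zpow_mul, ← zpow_add, ← h4, zpow_one]
    rw [h5]
    exact K.mul_mem (K.zpow_mem h1 _) (K.zpow_mem h2 _)

/-- The stabilizer of a point under a group of automorphisms. -/
def stabSub {W : Type u} [CommGroup W] (ψ : G →* MulAut W) (w : W) : Subgroup G where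
  carrier := {g | ψ g w = w}
  one_mem' := by simp
  mul_mem' := fun {a b} (ha : ψ a w = w) (hb : ψ b w = w) => show ψ (a * b) w = w by
    rw [map_mul, MulAut.mul_apply, hb, ha]
  inv_mem' := fun {a} (ha : ψ a w = w) => show ψ a⁻¹ w = w by
    conv_lhs => rw [← ha]
    rw [← MulAut.mul_apply, ← map_mul, inv_mul_cancel, map_one, MulAut.one_apply]

/-- The element which moves a large part of the `r`-component of the Fitting subgroup. -/
theorem local_part {r s a b : ℕ} [hr : Fact r.Prime] [hs : Fact s.Prime] (hrs : r ≠ s) (hs3 : 3 ≤ s)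
    (hcard : Nat.card G = r ^ a * s ^ b)
    (hab : ∀ A : Subgroup G, A.Normal → (∀ a ∈ A, ∀ b ∈ A, a * b = b * a) → A ≤ Subgroup.center G)
    (N : Subgroup G) [N.Normal] (hN : Group.IsNilpotent N) (hQ : Group.IsNilpotent (G ⧸ N))
    (R : Subgroup G) [R.Normal] (hR : IsPGroup r R) (hRN : R ≤ N)
    (hRmem : ∀ x ∈ N, (∃ k, orderOf x = r ^ k) → x ∈ R)
    {d : ℕ} (hd : ∃ k, d = r ^ k)
    (hdle : d ^ 2 * Nat.card ((Subgroup.center G).subgroupOf R) ≤ Nat.card R) :
    ∃ t : G, (∃ k, orderOf t = s ^ k) ∧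
      ∀ (g : G) (m : ℕ), g ^ m * t⁻¹ ∈ N → d ∣ (Subgroup.centralizer ({g} : Set G)).index := by
  classical
  set Z : Subgroup R := (Subgroup.center G).subgroupOf R with hZ
  have hRc : ⁅R, R⁆ ≤ Subgroup.center G := commutator_le_center hab R hR.isNilpotent
  letI : CommGroup (R ⧸ Z) :=
    { (inferInstance : Group (R ⧸ Z)) with
      mul_comm := fun x y => by
        obtain ⟨x, rfl⟩ := QuotientGroup.mk_surjective x
        obtain ⟨y, rfl⟩ := QuotientGroup.mk_surjective y
        rw [← QuotientGroup.mk_mul, ← QuotientGroup.mk_mul, QuotientGroup.eq]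
        show ((x * y)⁻¹ * (y * x) : R).1 ∈ Subgroup.center G
        have h1 : ⁅((y : R) : G)⁻¹, ((x : R) : G)⁻¹⁆ ∈ ⁅R, R⁆ :=
          Subgroup.commutator_mem_commutator (R.inv_mem y.2) (R.inv_mem x.2)
        rw [show ((x * y)⁻¹ * (y * x) : R).1 = ⁅((y : R) : G)⁻¹, ((x : R) : G)⁻¹⁆ by
          rw [commutatorElement_def]; simp [mul_assoc]]
        exact hRc h1 }
  let c : G →* MulAut R := MulAut.conjNormal
  have hcZ : ∀ g, Z.map (c g).toMonoidHom = Z := fun g => by
    have hfix : ∀ z ∈ Z, c g z = z := fun z hz => Subtype.ext (by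
      show ((MulAut.conjNormal g z : R) : G) = (z : G)
      rw [MulAut.conjNormal_apply, show g * (z : G) = (z : G) * g from Subgroup.mem_center_iff.1 hz g,
        mul_inv_cancel_right])
    refine le_antisymm ?_ fun z hz => ⟨z, hz, hfix z hz⟩
    rintro _ ⟨z, hz, rfl⟩
    show c g z ∈ Z
    rw [hfix z hz]; exact hz
  let ψ : G →* MulAut (R ⧸ Z) :=
    { toFun := fun g => QuotientGroup.congr Z Z (c g) (hcZ g)
      map_one' := MulEquiv.ext fun w => by
        obtain ⟨w, rfl⟩ := QuotientGroup.mk_surjective w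
        simp
      map_mul' := fun g h => MulEquiv.ext fun w => by
        obtain ⟨w, rfl⟩ := QuotientGroup.mk_surjective w
        show ((c (g * h) w : R) : R ⧸ Z) = ((c g (c h w) : R) : R ⧸ Z)
        rw [map_mul, MulAut.mul_apply] }
  have hψ : ∀ g (x : R), ψ g (x : R ⧸ Z) = (x : R ⧸ Z) ↔ g * x * g⁻¹ * (x : G)⁻¹ ∈ Subgroup.center G :=
    fun g x => by
      show ((c g x : R) : R ⧸ Z) = (x : R ⧸ Z) ↔ _
      rw [← mul_inv_eq_one, ← QuotientGroup.mk_inv, ← QuotientGroup.mk_mul, QuotientGroup.eq_one_iff]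
      rfl
  -- `N` acts trivially
  have hNker : ∀ x ∈ N, x ∈ ψ.ker := by
    refine mem_of_prime_pow fun x hx hpp => ?_
    rw [MonoidHom.mem_ker]
    refine MulEquiv.ext fun w => ?_
    obtain ⟨w, rfl⟩ := QuotientGroup.mk_surjective w
    rw [MulAut.one_apply, hψ]
    obtain ⟨t, k, ht, hk, hxo⟩ := hpp
    by_cases htr : t = r
    · subst htr
      exact hRc (Subgroup.commutator_mem_commutator (hRmem x hx ⟨k, hxo.symm⟩) w.2)
    · obtain ⟨j, hj⟩ := IsPGroup.iff_orderOf.1 hR w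
      have hcop : (orderOf (⟨x, hx⟩ : N)).Coprime (orderOf (⟨w, hRN w.2⟩ : N)) := by
        rw [Subgroup.orderOf_mk, Subgroup.orderOf_mk, ← hxo, Subgroup.orderOf_coe, hj]
        exact Nat.Coprime.pow _ _ ((Nat.coprime_primes (Nat.prime_iff.2 ht) hr.out).2 htr)
      have h1 : x * (w : G) = (w : G) * x :=
        congrArg Subtype.val (OddLocal.commute_of_coprime_orderOf hN hcop).eq
      rw [h1, mul_inv_cancel_right, mul_inv_cancel]
      exact one_mem _
  -- the Sylow subgroups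
  obtain ⟨S⟩ : Nonempty (Sylow s G) := inferInstance
  obtain ⟨P⟩ : Nonempty (Sylow r G) := inferInstance
  have hcomm : ∀ x ∈ (P : Subgroup G), ∀ y ∈ (S : Subgroup G), Commute (ψ x) (ψ y) := by
    intro x hx y hy
    obtain ⟨i, hi⟩ := IsPGroup.iff_orderOf.1 P.isPGroup' ⟨x, hx⟩
    obtain ⟨j, hj⟩ := IsPGroup.iff_orderOf.1 S.isPGroup' ⟨y, hy⟩
    rw [Subgroup.orderOf_mk] at hi hj
    have hcop : (orderOf (x : G ⧸ N)).Coprime (orderOf (y : G ⧸ N)) := by
      refine Nat.Coprime.coprime_dvd_left (orderOf_map_dvd (QuotientGroup.mk' N) x)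
        (Nat.Coprime.coprime_dvd_right (orderOf_map_dvd (QuotientGroup.mk' N) y) ?_)
      rw [hi, hj]
      exact Nat.Coprime.pow _ _ ((Nat.coprime_primes hr.out hs.out).2 hrs)
    have h1 := (OddLocal.commute_of_coprime_orderOf hQ hcop).eq
    rw [← QuotientGroup.mk_mul, ← QuotientGroup.mk_mul, QuotientGroup.eq] at h1
    have h2 := MonoidHom.mem_ker.1 (hNker _ h1)
    rw [map_mul, map_inv, inv_mul_eq_one, map_mul, map_mul] at h2
    exact h2
  have hVp : IsPGroup r (R ⧸ Z) := hR.to_quotient Z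
  have hcopV : (Nat.card (R ⧸ Z)).Coprime s := by
    obtain ⟨i, hi⟩ := hVp.exists_card_eq
    rw [hi]
    exact ((Nat.coprime_primes hr.out hs.out).2 hrs).pow_left _
  let φ : (S : Subgroup G) →* MulAut (R ⧸ Z) := ψ.comp (S : Subgroup G).subtype
  have hfree : ∀ w, (∀ y, φ y w = w) → w = 1 := by
    by_contra! hne
    obtain ⟨w₀, hw₀, hw₀1⟩ := hne
    let W₀ : Subgroup (R ⧸ Z) := ⨅ y : (S : Subgroup G), fixSub (φ y)
    have hmem : ∀ {w}, w ∈ W₀ ↔ ∀ y, φ y w = w := fun {w} => by simp [W₀, Subgroup.mem_iInf]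
    letI act : MulAction (P : Subgroup G) W₀ :=
      { smul := fun x w => ⟨ψ x w, hmem.2 fun y => by
          show ψ y (ψ x w) = ψ x w
          rw [← MulAut.mul_apply, ← (hcomm x x.2 y y.2).eq, MulAut.mul_apply]
          exact congrArg _ (hmem.1 w.2 y)⟩
        one_smul := fun w => Subtype.ext (by show ψ 1 (w : R ⧸ Z) = w; simp)
        mul_smul := fun x x' w => Subtype.ext (by
          show ψ ((x * x' : (P : Subgroup G)) : G) (w : R ⧸ Z) = ψ x (ψ x' w)
          rw [Subgroup.coe_mul, map_mul, MulAut.mul_apply]) }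
    have hWne : W₀ ≠ ⊥ := fun e => hw₀1 (by
      have h1 : w₀ ∈ W₀ := hmem.2 hw₀
      rwa [e, Subgroup.mem_bot] at h1)
    obtain ⟨i, hi⟩ := (hVp.to_subgroup W₀).exists_card_eq
    have hrW : r ∣ Nat.card W₀ := by
      rw [hi]
      refine dvd_pow_self r fun e => hWne (Subgroup.card_eq_one.1 ?_)
      rw [hi, e, pow_zero]
    have h1mem : (1 : W₀) ∈ MulAction.fixedPoints (P : Subgroup G) W₀ := fun x =>
      Subtype.ext (by show ψ (x : G) 1 = 1; simp)
    obtain ⟨u, hu, hu1⟩ :=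
      P.isPGroup'.exists_fixed_point_of_prime_dvd_card_of_fixed_point _ hrW h1mem
    obtain ⟨x, hx⟩ := QuotientGroup.mk_surjective (u : R ⧸ Z)
    let K : Subgroup G := stabSub ψ (x : R ⧸ Z)
    have hK : ∀ g, g ∈ K ↔ ψ g (x : R ⧸ Z) = x := fun g => Iff.rfl
    have hKtop : K = ⊤ := by
      refine Subgroup.eq_top_of_card_eq _ (Nat.dvd_antisymm (Subgroup.card_subgroup_dvd_card _) ?_)
      have h1 : (P : Subgroup G) ≤ K := fun g hg => by
        rw [hK, hx]
        exact congrArg Subtype.val (hu ⟨g, hg⟩)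
      have h2 : (S : Subgroup G) ≤ K := fun g hg => by
        rw [hK, hx]
        exact hmem.1 u.2 ⟨g, hg⟩
      rw [hcard]
      refine Nat.Coprime.mul_dvd_of_dvd_of_dvd
        (Nat.Coprime.pow _ _ ((Nat.coprime_primes hr.out hs.out).2 hrs)) ?_ ?_
      · refine Dvd.dvd.trans ?_ (Subgroup.card_dvd_of_le h1)
        rw [P.card_eq_multiplicity]
        exact pow_dvd_pow r ((hr.out.pow_dvd_iff_le_factorization Nat.card_pos.ne').1
          (hcard ▸ dvd_mul_right _ _))
      · refine Dvd.dvd.trans ?_ (Subgroup.card_dvd_of_le h2)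
        rw [S.card_eq_multiplicity]
        exact pow_dvd_pow s ((hs.out.pow_dvd_iff_le_factorization Nat.card_pos.ne').1
          (hcard ▸ dvd_mul_left _ _))
    let Zc : Subgroup G := R ⊓ Subgroup.center G
    let X : Subgroup G := Subgroup.closure (insert (x : G) (Zc : Set G))
    have hXab : ∀ y ∈ X, ∀ y' ∈ X, y * y' = y' * y := by
      have hgen : ∀ y ∈ insert (x : G) (Zc : Set G), ∀ y' ∈ insert (x : G) (Zc : Set G),
          y * y' = y' * y := by
        intro y hy y' hy'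
        rcases hy with rfl | hy
        · rcases hy' with rfl | hy'
          · rfl
          · exact Subgroup.mem_center_iff.1 hy'.2 _
        · exact (Subgroup.mem_center_iff.1 hy.2 y').symm
      exact fun y hy y' hy' => congrArg Subtype.val
        ((Subgroup.isMulCommutative_closure hgen).is_comm.comm ⟨y, hy⟩ ⟨y', hy'⟩)
    have hXn : X.Normal := by
      refine ⟨fun y hy g => ?_⟩
      have h1 : X ≤ X.comap (MulAut.conj g).toMonoidHom := by
        refine (Subgroup.closure_le _).2 ?_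
        rintro y (rfl | hy)
        · show g * x * g⁻¹ ∈ X
          have h2 := (hψ g x).1 ((hK g).1 (hKtop ▸ Subgroup.mem_top g))
          have h3 : g * x * g⁻¹ * (x : G)⁻¹ ∈ Zc :=
            ⟨R.mul_mem (‹R.Normal›.conj_mem x x.2 g) (R.inv_mem x.2), h2⟩
          have h4 : (g * x * g⁻¹ * (x : G)⁻¹) * x ∈ X :=
            X.mul_mem (Subgroup.subset_closure (Set.mem_insert_of_mem _ h3))
              (Subgroup.subset_closure (Set.mem_insert _ _))
          rwa [inv_mul_cancel_right] at h4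
        · show g * y * g⁻¹ ∈ X
          rw [Subgroup.mem_center_iff.1 hy.2 g, mul_inv_cancel_right]
          exact Subgroup.subset_closure (Set.mem_insert_of_mem _ hy)
      exact h1 hy
    have hxc : (x : G) ∈ Subgroup.center G :=
      hab X hXn hXab (Subgroup.subset_closure (Set.mem_insert _ _))
    refine hu1 (Subtype.ext ?_)
    show (1 : R ⧸ Z) = (u : R ⧸ Z)
    rw [← hx]
    exact ((QuotientGroup.eq_one_iff x).2 hxc).symm
  obtain ⟨⟨t, ht⟩, htfix⟩ := exists_fix_small hs3 S.isPGroup' φ hcopV hfree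
  refine ⟨t, ?_, fun g m hgm => ?_⟩
  · obtain ⟨j, hj⟩ := IsPGroup.iff_orderOf.1 S.isPGroup' ⟨t, ht⟩
    exact ⟨j, by rw [← hj, Subgroup.orderOf_mk]⟩
  -- the centralizer in `R`
  have hgt : ψ t = ψ g ^ m := by
    have h1 := MonoidHom.mem_ker.1 (hNker _ hgm)
    rw [map_mul, map_inv, mul_inv_eq_one, map_pow] at h1
    exact h1.symm
  set C : Subgroup R := (Subgroup.centralizer ({g} : Set G)).subgroupOf R with hC
  have hCfix : Nat.card C ≤ Nat.card Z * Nat.card (fixSub (ψ t)) := by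
    let f : C →* R ⧸ Z := (QuotientGroup.mk' Z).comp C.subtype
    rw [Subgroup.card_eq_card_quotient_mul_card_subgroup f.ker, mul_comm,
      Nat.card_congr (QuotientGroup.quotientKerEquivRange f).toEquiv]
    refine Nat.mul_le_mul ?_ ?_
    · exact Nat.card_le_card_of_injective
        (fun y => (⟨(y.1 : R), (QuotientGroup.eq_one_iff _).1 y.2⟩ : Z))
        fun y y' e => Subtype.ext (Subtype.ext (congrArg Subtype.val e :))
    · refine Nat.card_le_card_of_injective (fun y => (⟨y.1, ?_⟩ : fixSub (ψ t)))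
        fun y y' e => Subtype.ext (congrArg Subtype.val e :)
      obtain ⟨_, ⟨y, rfl⟩⟩ := y
      rw [mem_fixSub, hgt]
      have h1 : ψ g (f y) = f y := (hψ g (y : R)).2 (by
        have h2 : ((y : R) : G) * g = g * ((y : R) : G) :=
          Subgroup.mem_centralizer_singleton_iff.1 y.2
        rw [← h2, mul_inv_cancel_right, mul_inv_cancel]
        exact one_mem _)
      clear hgt hgm
      induction m with
      | zero => simp
      | succ m ih => rw [pow_succ, MulAut.mul_apply, h1, ih]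
  have hVcard : Nat.card R = Nat.card (R ⧸ Z) * Nat.card Z :=
    Subgroup.card_eq_card_quotient_mul_card_subgroup Z
  have hdV : d ^ 2 ≤ Nat.card (R ⧸ Z) :=
    Nat.le_of_mul_le_mul_right (hVcard ▸ hdle) Nat.card_pos
  set i := C.index with hi
  set f := Nat.card (fixSub (ψ t))
  set V := Nat.card (R ⧸ Z)
  have hf3 : f ^ 3 ≤ V := htfix
  have hVi : V ≤ i * f := by
    refine Nat.le_of_mul_le_mul_right ?_ (Nat.card_pos (α := Z))
    rw [← hVcard, ← C.card_mul_index]
    calc Nat.card C * i ≤ Nat.card Z * f * i := Nat.mul_le_mul_right _ hCfix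
      _ = i * f * Nat.card Z := by ring
  have hf1 : 1 ≤ f := Nat.card_pos
  have hV1 : 1 ≤ V := Nat.card_pos
  have hdi : d ≤ i := by
    have h1 : V * V ≤ i ^ 2 * V := by
      calc V * V ≤ (i * f) * (i * f) := Nat.mul_le_mul hVi hVi
        _ = i ^ 2 * f ^ 2 := by ring
        _ ≤ i ^ 2 * V := Nat.mul_le_mul_left _
          ((Nat.pow_le_pow_right hf1 (by norm_num : 2 ≤ 3)).trans hf3)
    have h2 : V ≤ i ^ 2 := Nat.le_of_mul_le_mul_right h1 hV1
    exact (Nat.pow_le_pow_iff_left two_ne_zero).1 (hdV.trans h2)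
  obtain ⟨k, rfl⟩ := hd
  obtain ⟨e, he⟩ := hR.index C
  rw [← hi] at he
  have hke : k ≤ e := (Nat.pow_le_pow_iff_right hr.out.one_lt).1 (he ▸ hdi)
  refine dvd_trans (pow_dvd_pow r hke) ?_
  rw [← he, hi, hC]
  show (Subgroup.centralizer ({g} : Set G)).relIndex R ∣ _
  set Cg := Subgroup.centralizer ({g} : Set G)
  have e1 := Subgroup.relIndex_mul_index (inf_le_right : Cg ⊓ R ≤ R)
  have e2 := Subgroup.relIndex_mul_index (inf_le_left : Cg ⊓ R ≤ Cg)
  rw [Subgroup.inf_relIndex_right] at e1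
  rw [Subgroup.inf_relIndex_left, ← e1] at e2
  obtain ⟨u, hu⟩ : R.relIndex Cg ∣ R.index := Subgroup.relIndex_dvd_index_of_normal (H := R) (K := Cg)
  refine ⟨u, ?_⟩
  rw [hu, ← mul_assoc, mul_comm _ (R.relIndex Cg), mul_assoc] at e2
  exact Nat.eq_of_mul_eq_mul_left (Nat.pos_of_ne_zero fun e => by
    rw [e, zero_mul] at hu
    exact Subgroup.index_ne_zero_of_finite hu) e2

/-- The degree as a natural number. -/
theorem charDegree_eq' {X : Type u} [Group X] {θ : X → ℂ} {d : ℕ} (h : θ 1 = d) :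
    charDegree θ = d := by
  simp [charDegree, h]

/-- The local data at the prime `r`. -/
theorem exists_local {r s a b : ℕ} [hr : Fact r.Prime] [hs : Fact s.Prime] (hrs : r ≠ s) (hs3 : 3 ≤ s)
    (hcard : Nat.card G = r ^ a * s ^ b) [Fintype G] {χ : G → ℂ} (hχ : IsIrrCharacter G χ) (hqp : QP χ)
    (hfaith : ∀ g, χ g = χ 1 → g = 1) (N : Subgroup G) [N.Normal]
    (hN : Group.IsNilpotent N) (hQ : Group.IsNilpotent (G ⧸ N)) :
    ∃ (d k : ℕ) (t : G), charDegree χ = k * d ∧ k ∣ s ^ b ∧ (∃ i, d = r ^ i) ∧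
      (∃ j, orderOf t = s ^ j) ∧
      ∀ (g : G) (m : ℕ), g ^ m * t⁻¹ ∈ N → d ∣ (Subgroup.centralizer ({g} : Set G)).index := by
  classical
  letI := Fintype.ofFinite N
  have hχN := res_irr_of_nilpotent_quotient hχ hqp N.index N hQ rfl
  obtain ⟨P⟩ : Nonempty (Sylow r N) := inferInstance
  have hPn : (P : Subgroup N).Normal :=
    (((isNilpotent_of_finite_tfae (G := N)).out 0 3 rfl rfl).mp hN :
      ∀ (p : ℕ) (_ : Fact p.Prime) (P : Sylow p N), (P : Subgroup N).Normal) r ‹_› P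
  have hPc : (P : Subgroup N).Characteristic := Sylow.characteristic_of_normal P hPn
  let R : Subgroup G := (P : Subgroup N).map N.subtype
  have hRn : R.Normal := ConjAct.normal_of_characteristic_of_normal
  have hR : IsPGroup r R := P.isPGroup'.map N.subtype
  let e : (P : Subgroup N) ≃* R := Subgroup.equivMapOfInjective _ N.subtype N.subtype_injective
  have hRmem : ∀ x ∈ N, (∃ k, orderOf x = r ^ k) → x ∈ R := by
    rintro x hx ⟨k, hk⟩
    have h1 : IsPGroup r (Subgroup.zpowers (⟨x, hx⟩ : N)) :=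
      IsPGroup.of_card (n := k) (by rw [Nat.card_zpowers, Subgroup.orderOf_mk, hk])
    have h2 : Subgroup.zpowers (⟨x, hx⟩ : N) ≤ P := by
      obtain ⟨P', hP'⟩ := h1.exists_le_sylow
      have : Subsingleton (Sylow r N) := (Sylow.unique_of_normal P hPn).instSubsingleton
      rwa [Subsingleton.elim P' P] at hP'
    exact ⟨⟨x, hx⟩, h2 (Subgroup.mem_zpowers _), rfl⟩
  letI := Fintype.ofFinite (P : Subgroup N)
  obtain ⟨⟨θ, hθ⟩, h0⟩ := exists_constituent_res (N := (P : Subgroup N)) hχN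
  change classInner (fun n : (P : Subgroup N) => (fun m : N => χ m) n) θ ≠ 0 at h0
  obtain ⟨k, hk, hkd⟩ := ProjExt.exists_ratio_dvd_index hχN hθ h0
  obtain ⟨d, -, hd⟩ := IsIrr.degree hθ
  obtain ⟨w, hw⟩ := P.isPGroup'.exists_card_eq
  have hdc := IsIrr.degree_dvd_card hθ hd
  rw [hw] at hdc
  obtain ⟨i, -, hi⟩ := (Nat.dvd_prime_pow hr.out).1 hdc
  have hdeg : charDegree χ = k * d := charDegree_eq' (by
    push_cast
    rw [← hd]
    exact hk)
  have hks : k ∣ s ^ b := by
    have h1 : (P : Subgroup N).index ∣ r ^ a * s ^ b :=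
      hcard ▸ (Subgroup.index_dvd_card _).trans (Subgroup.card_subgroup_dvd_card N)
    exact hkd.trans (Nat.Coprime.dvd_of_dvd_mul_left
      ((hr.out.coprime_iff_not_dvd.2 P.not_dvd_index).symm.pow_right a) h1)
  have hle : d ^ 2 * Nat.card ((Subgroup.center G).subgroupOf R) ≤ Nat.card R := by
    have h1 := CharArith.card_center_mul_sq_le hθ
    rw [charDegree_eq' hd] at h1
    rw [← Nat.card_congr e.toEquiv, mul_comm]
    refine le_trans (Nat.mul_le_mul_right _ ?_) h1
    refine Nat.card_le_card_of_injective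
      (fun z => (⟨e.symm z.1, ?_⟩ : Subgroup.center (P : Subgroup N)))
      fun z z' h => Subtype.ext (e.symm.injective (congrArg Subtype.val h :))
    rw [Subgroup.mem_center_iff]
    intro y
    apply e.injective
    rw [map_mul, map_mul, e.apply_symm_apply]
    exact Subtype.ext (Subgroup.mem_center_iff.1 (Subgroup.mem_subgroupOf.1 z.2) _)
  obtain ⟨t, ht, hdvd⟩ := local_part hrs hs3 hcard (abelian_normal_le_center hχ hqp hfaith)
    N hN hQ R hR (Subgroup.map_subtype_le _) hRmem ⟨i, hi⟩ hle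
  exact ⟨d, k, t, hdeg, hks, ⟨i, hi⟩, ht, hdvd⟩

/-- The degree of a faithful quasi-primitive character divides a class size. -/
theorem exists_dvd_index_faithful {p q a b : ℕ} [hp : Fact p.Prime] [hq : Fact q.Prime] (hpq : p ≠ q)
    (hp3 : 3 ≤ p) (hq3 : 3 ≤ q) (hcard : Nat.card G = p ^ a * q ^ b) [Fintype G] {χ : G → ℂ}
    (hχ : IsIrrCharacter G χ) (hqp : QP χ) (hfaith : ∀ g, χ g = χ 1 → g = 1) (N : Subgroup G)
    [N.Normal] (hN : Group.IsNilpotent N) (hQ : Group.IsNilpotent (G ⧸ N)) :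
    ∃ g : G, charDegree χ ∣ (Subgroup.centralizer ({g} : Set G)).index := by
  obtain ⟨d₁, k₁, t₁, hd₁, hk₁, ⟨i₁, rfl⟩, ⟨j₁, hj₁⟩, h₁⟩ :=
    exists_local hpq hq3 hcard hχ hqp hfaith N hN hQ
  obtain ⟨d₂, k₂, t₂, hd₂, hk₂, ⟨i₂, rfl⟩, ⟨j₂, hj₂⟩, h₂⟩ :=
    exists_local hpq.symm hp3 (hcard.trans (mul_comm _ _)) hχ hqp hfaith N hN hQ
  have hc : p.Coprime q := (Nat.coprime_primes hp.out hq.out).2 hpq
  refine ⟨t₁ * t₂, ?_⟩
  have hoc : (orderOf t₁).Coprime (orderOf t₂) := by
    rw [hj₁, hj₂]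
    exact hc.symm.pow _ _
  have hcomm : Commute (t₁ : G ⧸ N) (t₂ : G ⧸ N) := OddLocal.commute_of_coprime_orderOf hQ
    (Nat.Coprime.coprime_dvd_left (orderOf_map_dvd (QuotientGroup.mk' N) t₁)
      (Nat.Coprime.coprime_dvd_right (orderOf_map_dvd (QuotientGroup.mk' N) t₂) hoc))
  have hpow : ∀ x y : G, (orderOf x).Coprime (orderOf y) → Commute (x : G ⧸ N) (y : G ⧸ N) →
      ∃ m : ℕ, (x * y) ^ m * x⁻¹ ∈ N := by
    intro x y hxy hxyc
    obtain ⟨m, hm1, hm0⟩ := Nat.chineseRemainder hxy 1 0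
    refine ⟨m, ?_⟩
    rw [← QuotientGroup.eq_one_iff, QuotientGroup.mk_mul, QuotientGroup.mk_pow, QuotientGroup.mk_mul,
      hxyc.mul_pow, ← QuotientGroup.mk_pow, ← QuotientGroup.mk_pow, QuotientGroup.mk_inv,
      pow_eq_pow_iff_modEq.2 hm1, pow_eq_pow_iff_modEq.2 hm0, pow_one, pow_zero, QuotientGroup.mk_one,
      mul_one, mul_inv_cancel]
  obtain ⟨m₁, hm₁⟩ := hpow t₁ t₂ hoc hcomm
  obtain ⟨m₂, hm₂⟩ := hpow t₂ t₁ hoc.symm hcomm.symm
  have hm₂' : (t₁ * t₂) ^ m₂ * t₂⁻¹ ∈ N := by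
    rw [← QuotientGroup.eq_one_iff, QuotientGroup.mk_mul, QuotientGroup.mk_pow, QuotientGroup.mk_mul] at hm₂ ⊢
    rwa [hcomm.eq]
  refine Dvd.dvd.trans ?_
    ((hc.pow i₁ i₂).mul_dvd_of_dvd_of_dvd (h₁ _ _ hm₁) (h₂ _ _ hm₂'))
  rw [hd₁, mul_comm]
  refine Nat.mul_dvd_mul_left _ ?_
  refine Nat.Coprime.dvd_of_dvd_mul_left ?_ ((hd₁.symm.trans hd₂) ▸ dvd_mul_right k₁ (p ^ i₁))
  exact Nat.Coprime.of_dvd hk₁ hk₂ (hc.symm.pow _ _)

/-- The degree of a quasi-primitive character of a metanilpotent group divides a class size. -/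
theorem exists_dvd_index {p q a b : ℕ} [hp : Fact p.Prime] [hq : Fact q.Prime] (hpq : p ≠ q)
    (hp3 : 3 ≤ p) (hq3 : 3 ≤ q) (hcard : Nat.card G = p ^ a * q ^ b) [Fintype G] {χ : G → ℂ}
    (hχ : IsIrrCharacter G χ) (hqp : QP χ) (N : Subgroup G) [N.Normal] (hN : Group.IsNilpotent N)
    (hQ : Group.IsNilpotent (G ⧸ N)) :
    ∃ g : G, charDegree χ ∣ (Subgroup.centralizer ({g} : Set G)).index := by
  classical
  let K := kerSubgroup (IsIrr.isCharacter hχ)
  obtain ⟨χ', hχ', he⟩ := IsIrr.exists_quotient K hχ fun n hn => hn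
  letI := Fintype.ofFinite (G ⧸ K)
  have hfaith : ∀ y, χ' y = χ' 1 → y = 1 := fun y hy => by
    obtain ⟨x, rfl⟩ := QuotientGroup.mk_surjective y
    rw [← he, ← QuotientGroup.mk_one, ← he] at hy
    exact (QuotientGroup.eq_one_iff x).2 hy
  let M : Subgroup (G ⧸ K) := N.map (QuotientGroup.mk' K)
  have hMn : M.Normal := ‹N.Normal›.map _ (QuotientGroup.mk'_surjective K)
  have hMnil : Group.IsNilpotent M :=
    Group.nilpotent_of_surjective ((QuotientGroup.mk' K).subgroupMap N)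
      ((QuotientGroup.mk' K).subgroupMap_surjective N)
  have hQM : Group.IsNilpotent ((G ⧸ K) ⧸ M) :=
    Group.nilpotent_of_surjective (QuotientGroup.map N M (QuotientGroup.mk' K) (Subgroup.le_comap_map _ _))
      fun y => by
        obtain ⟨y, rfl⟩ := QuotientGroup.mk_surjective y
        obtain ⟨x, rfl⟩ := QuotientGroup.mk_surjective y
        exact ⟨x, rfl⟩
  have hd : Nat.card (G ⧸ K) ∣ p ^ a * q ^ b := hcard ▸ Subgroup.card_quotient_dvd_card K
  obtain ⟨c₁, c₂, h1, h2, h3⟩ := Nat.dvd_mul.1 hd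
  obtain ⟨a', -, rfl⟩ := (Nat.dvd_prime_pow hp.out).1 h1
  obtain ⟨b', -, rfl⟩ := (Nat.dvd_prime_pow hq.out).1 h2
  obtain ⟨y, hy⟩ := exists_dvd_index_faithful hpq hp3 hq3 h3.symm hχ' (qp_quotient hqp K hχ' he)
    hfaith M hMnil hQM
  obtain ⟨g, rfl⟩ := QuotientGroup.mk_surjective y
  refine ⟨g, ?_⟩
  have hdeg : charDegree χ = charDegree χ' := by
    rw [charDegree, charDegree, he 1, QuotientGroup.mk_one]
  rw [hdeg]
  refine hy.trans (Dvd.dvd.trans (Subgroup.index_dvd_of_le ?_)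
    ((Subgroup.centralizer ({g} : Set G)).index_map_dvd (QuotientGroup.mk'_surjective K)))
  rintro _ ⟨x, hx, rfl⟩
  rw [Subgroup.mem_centralizer_singleton_iff]
  exact congrArg (QuotientGroup.mk' K) (Subgroup.mem_centralizer_singleton_iff.1 hx)

end Cfsg.Agent.PrimClass
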